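import Cfsg.Agent.Lib.SL2Trace.Basic

/-!
The unipotent subgroup of `PSL₂` over a finite field: it is a Sylow subgroup for the characteristic, it
meets its conjugates trivially, and its normalizer acts irreducibly on it.
-/

set_option autoImplicit false

namespace Cfsg.Agent.Lib.PushUp.PSLTwo

open Matrix Cfsg.Agent.Lib.SL2Trace
open scoped MatrixGroups

variable {F : Type*} [Field F]

local notation "SL2" => Matrix.SpecialLinearGroup (Fin 2) F
local notation "PSL2" => Matrix.ProjectiveSpecialLinearGroup (Fin 2) F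

/-- An upper unitriangular element. -/
def uni (a : F) : SL2 := ⟨!![1, a; 0, 1], by simp [Matrix.det_fin_two]⟩

/-- A diagonal element. -/
def diag (t : Fˣ) : SL2 := ⟨!![(t : F), 0; 0, ((t⁻¹ : Fˣ) : F)], by simp [Matrix.det_fin_two]⟩

/-- A representative of the nontrivial Weyl element. -/
def weyl : SL2 := ⟨!![0, -1; 1, 0], by simp [Matrix.det_fin_two]⟩

theorem coe_uni (a : F) : (uni a : Matrix (Fin 2) (Fin 2) F) = !![1, a; 0, 1] := rfl

theorem coe_diag (t : Fˣ) :
    (diag t : Matrix (Fin 2) (Fin 2) F) = !![(t : F), 0; 0, ((t⁻¹ : Fˣ) : F)] := rfl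

theorem coe_weyl : ((weyl : SL2) : Matrix (Fin 2) (Fin 2) F) = !![0, -1; 1, 0] := rfl

theorem uni_add (a b : F) : uni (a + b) = uni a * uni b := by
  ext i j; fin_cases i <;> fin_cases j <;> simp [coe_uni, Matrix.mul_apply, Fin.sum_univ_two, add_comm]

/-- The homomorphism onto the unipotent subgroup. -/
def uniHom : Multiplicative F →* PSL2 :=
  MonoidHom.mk' (fun a => toPSL (uni a.toAdd)) fun a b => by
    rw [← map_mul, ← uni_add]; rfl

theorem uniHom_apply (a : F) : uniHom (Multiplicative.ofAdd a) = toPSL (uni a) := rfl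

/-- The unipotent subgroup. -/
def U (F : Type*) [Field F] : Subgroup (Matrix.ProjectiveSpecialLinearGroup (Fin 2) F) :=
  (uniHom (F := F)).range

theorem mem_U {x : PSL2} : x ∈ U F ↔ ∃ a, toPSL (uni a) = x :=
  ⟨fun ⟨a, h⟩ => ⟨a.toAdd, h⟩, fun ⟨a, h⟩ => ⟨Multiplicative.ofAdd a, h⟩⟩

theorem uniHom_injective : Function.Injective (uniHom (F := F)) := by
  rw [injective_iff_map_eq_one]
  intro a ha
  have h' : toPSL (uni a.toAdd) = 1 := ha
  rcases toPSL_eq_one.mp h' with h | h
  · have h01 := congrArg (fun M : SL2 => M 0 1) h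
    simpa [coe_uni] using h01
  · have h01 := congrArg (fun M : SL2 => M 0 1) h
    simpa [coe_uni] using h01

theorem card_U : Nat.card ↥(U F) = Nat.card F := by
  rw [U, ← Nat.card_congr (MonoidHom.ofInjective uniHom_injective).toEquiv]
  exact Nat.card_congr Multiplicative.toAdd

theorem comm_U {x y : PSL2} (hx : x ∈ U F) (hy : y ∈ U F) : x * y = y * x := by
  obtain ⟨a, rfl⟩ := hx; obtain ⟨b, rfl⟩ := hy
  rw [← map_mul, ← map_mul, mul_comm]

theorem uni_conj_lower {g : SL2} {a b : F} (ha : a ≠ 0)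
    (h : toPSL g * toPSL (uni a) * (toPSL g)⁻¹ = toPSL (uni b)) : g 1 0 = 0 := by
  rw [mul_inv_eq_iff_eq_mul, ← map_mul, ← map_mul] at h
  rcases toPSL_eq.mp h with h | h
  · have h11 := congrArg (fun M : SL2 => M 1 1) h
    simp [coe_uni, Matrix.mul_apply, Fin.sum_univ_two] at h11
    exact h11.resolve_right ha
  · have h11 := congrArg (fun M : SL2 => M 1 1) h
    have h10 := congrArg (fun M : SL2 => M 1 0) h
    simp [coe_uni, Matrix.mul_apply, Fin.sum_univ_two] at h11 h10
    by_cases h2 : (2 : F) = 0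
    · have : g 1 0 * a = 0 := by linear_combination h11 - g 1 1 * h2
      exact (mul_eq_zero.mp this).resolve_right ha
    · have : (2 : F) * g 1 0 = 0 := by linear_combination h10
      exact (mul_eq_zero.mp this).resolve_left h2

theorem conj_upper {g : SL2} (hg : g 1 0 = 0) (a : F) :
    toPSL g * toPSL (uni a) * (toPSL g)⁻¹ = toPSL (uni (g 0 0 * g 0 0 * a)) := by
  rw [mul_inv_eq_iff_eq_mul, ← map_mul, ← map_mul]
  refine congrArg _ ?_
  have hd := det_eq g
  rw [hg, mul_zero, sub_zero] at hd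
  ext i j
  fin_cases i <;> fin_cases j <;> simp [coe_uni, Matrix.mul_apply, Fin.sum_univ_two, hg] <;>
    linear_combination -(a * g 0 0) * hd

theorem mem_normalizer [Finite F] {g : SL2} (hg : g 1 0 = 0) :
    toPSL g ∈ Subgroup.normalizer ((U F : Subgroup PSL2) : Set PSL2) := by
  refine Subgroup.mem_normalizer_iff.mpr fun x => ⟨fun hx => ?_, fun hx => ?_⟩
  · obtain ⟨a, rfl⟩ := mem_U.mp hx
    rw [conj_upper hg a]
    exact mem_U.mpr ⟨_, rfl⟩
  · obtain ⟨b, hb⟩ := mem_U.mp hx
    have hd := det_eq g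
    rw [hg, mul_zero, sub_zero] at hd
    refine mem_U.mpr ⟨g 1 1 * g 1 1 * b, mul_left_cancel (a := toPSL g)
      (mul_right_cancel (b := (toPSL g)⁻¹) ?_)⟩
    rw [← hb, conj_upper hg]
    exact congrArg (fun c => toPSL (uni c)) (by linear_combination b * (g 0 0 * g 1 1 + 1) * hd)

/-- Trivial intersection. -/
theorem ti [Finite F] {x g : PSL2} (hx : x ∈ U F) (h1 : x ≠ 1) (h : g * x * g⁻¹ ∈ U F) :
    g ∈ Subgroup.normalizer ((U F : Subgroup PSL2) : Set PSL2) := by
  obtain ⟨A, rfl⟩ := toPSL_surjective g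
  obtain ⟨a, rfl⟩ := mem_U.mp hx
  obtain ⟨b, hb⟩ := mem_U.mp h
  refine mem_normalizer (uni_conj_lower (a := a) ?_ hb.symm)
  rintro rfl
  exact h1 (toPSL_eq_one.mpr (Or.inl (by ext i j; fin_cases i <;> fin_cases j <;> simp [coe_uni])))

theorem not_normal [Finite F] :
    Subgroup.normalizer ((U F : Subgroup PSL2) : Set PSL2) ≠ ⊤ := by
  intro h
  have hx : toPSL (uni (1 : F)) ∈ U F := mem_U.mpr ⟨1, rfl⟩
  have := (Subgroup.mem_normalizer_iff.mp (h ▸ Subgroup.mem_top (toPSL (weyl (F := F)))) _).mp hx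
  obtain ⟨b, hb⟩ := mem_U.mp this
  have h0 := uni_conj_lower (g := weyl (F := F)) one_ne_zero hb.symm
  simp [coe_weyl] at h0

/-- Subgroups of `U` normalised by its normalizer are trivial or all of `U`. -/
theorem irred [Finite F] {p : ℕ} [Fact p.Prime] [CharP F p] {H : Subgroup PSL2} (hH : H ≤ U F)
    (hinv : ∀ g ∈ Subgroup.normalizer ((U F : Subgroup PSL2) : Set PSL2), ∀ h ∈ H,
      g * h * g⁻¹ ∈ H) : H = ⊥ ∨ H = U F := by
  by_contra hcon
  push Not at hcon
  obtain ⟨hbot, hne⟩ := hcon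
  obtain ⟨x, hx, hx1⟩ := (Subgroup.bot_or_exists_ne_one H).resolve_left hbot
  obtain ⟨a, rfl⟩ := mem_U.mp (hH hx)
  have ha : a ≠ 0 := by
    rintro rfl
    exact hx1 (map_one uniHom)
  let A : AddSubgroup F :=
    { carrier := {c | toPSL (uni c) ∈ H}
      add_mem' := fun {c d} hc hd => by
        rw [Set.mem_setOf_eq, uni_add, map_mul]; exact H.mul_mem hc hd
      zero_mem' := by
        show toPSL (uni (0 : F)) ∈ H
        rw [show toPSL (uni (0 : F)) = uniHom 1 from rfl, map_one]; exact H.one_mem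
      neg_mem' := fun {c} hc => by
        show toPSL (uni (-c)) ∈ H
        rw [show toPSL (uni (-c)) = uniHom (Multiplicative.ofAdd c)⁻¹ from rfl, map_inv]
        exact H.inv_mem hc }
  have hsq : ∀ t c : F, c ∈ A → t * t * c ∈ A := by
    intro t c hc
    rcases eq_or_ne t 0 with rfl | ht
    · simpa using A.zero_mem
    · show toPSL (uni (t * t * c)) ∈ H
      have hd : (diag (Units.mk0 t ht) : SL2) 1 0 = 0 := by simp [coe_diag]
      have := hinv _ (mem_normalizer hd) _ hc
      rw [conj_upper hd] at this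
      simpa [coe_diag] using this
  have hall : ∀ z : F, z * a ∈ A := by
    intro z
    rcases (Fact.out : p.Prime).eq_two_or_odd' with rfl | hodd
    · obtain ⟨t, ht⟩ := FiniteField.isSquare_of_char_two (ringChar.eq F 2) z
      rw [ht]
      exact hsq t a (by exact hx)
    · obtain ⟨m, hm⟩ := hodd
      have h2 : (z + 1) * (z + 1) * a - z * z * a - a ∈ A :=
        A.sub_mem (A.sub_mem (hsq _ _ hx) (hsq _ _ hx)) hx
      have h3 := A.nsmul_mem h2 (m + 1)
      rw [nsmul_eq_mul] at h3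
      have hp0 : (p : F) = 0 := CharP.cast_eq_zero F p
      rw [hm] at hp0
      push_cast at hp0 h3
      convert h3 using 1
      linear_combination -(z * a) * hp0
  refine hne (le_antisymm hH fun y hy => ?_)
  obtain ⟨c, rfl⟩ := mem_U.mp hy
  have := hall (c * a⁻¹)
  rwa [mul_assoc, inv_mul_cancel₀ ha, mul_one] at this

theorem isPGroup_U [Finite F] {p n : ℕ} (h : Nat.card F = p ^ n) : IsPGroup p ↥(U F) :=
  IsPGroup.of_card (n := n) (by rw [card_U, h])

theorem isSylow [Finite F] {p n : ℕ} [Fact p.Prime] [CharP F p] (h : Nat.card F = p ^ n) :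
    ∃ P : Sylow p PSL2, (P : Subgroup PSL2) = U F := by
  obtain ⟨P, hP⟩ := (isPGroup_U h).exists_le_sylow
  refine ⟨P, ?_⟩
  by_contra hne
  haveI : Finite PSL2 := Finite.of_surjective _ (toPSL_surjective (F := F))
  haveI : Group.IsNilpotent ↥(P : Subgroup PSL2) := P.2.isNilpotent
  have hlt : (U F).subgroupOf (P : Subgroup PSL2) < ⊤ := by
    refine lt_top_iff_ne_top.mpr fun ht => hne (le_antisymm (Subgroup.subgroupOf_eq_top.mp ht) hP)
  have hN := normalizerCondition_of_isNilpotent _ hlt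
  obtain ⟨⟨y, hyP⟩, hyN, hyU⟩ := SetLike.exists_of_lt hN
  rw [Subgroup.mem_subgroupOf] at hyU
  have hu1 : toPSL (uni (1 : F)) ∈ U F := mem_U.mpr ⟨1, rfl⟩
  have hconj : y * toPSL (uni (1 : F)) * y⁻¹ ∈ U F := by
    have := (Subgroup.mem_normalizer_iff.mp hyN ⟨_, hP hu1⟩).mp hu1
    exact this
  obtain ⟨A, rfl⟩ := toPSL_surjective y
  obtain ⟨b, hb⟩ := mem_U.mp hconj
  have h10 := uni_conj_lower one_ne_zero hb.symm
  obtain ⟨k, hk⟩ := P.2 ⟨_, hyP⟩
  have hk' : toPSL (A ^ p ^ k) = 1 := by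
    rw [map_pow]
    exact congrArg Subtype.val hk
  have hpow : ∀ j : ℕ, (A ^ j : SL2) 1 0 = 0 ∧ (A ^ j : SL2) 0 0 = A 0 0 ^ j := by
    intro j
    induction j with
    | zero => simp
    | succ j ih =>
      rw [pow_succ, Matrix.SpecialLinearGroup.coe_mul]
      simp only [Matrix.mul_apply, Fin.sum_univ_two, h10, ih.1, ih.2]
      simp [pow_succ]
  have h00 : A 0 0 = 1 ∨ A 0 0 = -1 := by
    rcases toPSL_eq_one.mp hk' with h | h
    · left
      have h' := congrArg (fun M : SL2 => M 0 0) h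
      simp only [(hpow _).2] at h'
      refine iterateFrobenius_inj F p k ?_
      simpa [iterateFrobenius_def] using h'
    · right
      have h' := congrArg (fun M : SL2 => M 0 0) h
      simp only [(hpow _).2] at h'
      refine iterateFrobenius_inj F p k ?_
      simp only [iterateFrobenius_def, h']
      rw [show ((-1 : F)) ^ p ^ k = -1 from ?_]
      · simp
      rw [← iterateFrobenius_def (R := F), map_neg, map_one]
  have hd := det_eq A
  rw [h10, mul_zero, sub_zero] at hd
  apply hyU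
  rcases h00 with h | h
  · refine mem_U.mpr ⟨A 0 1, congrArg _ ?_⟩
    rw [h, one_mul] at hd
    ext i j; fin_cases i <;> fin_cases j <;> simp [coe_uni, h, h10, hd]
  · refine mem_U.mpr ⟨-A 0 1, ?_⟩
    show toPSL (uni (-A 0 1)) = toPSL A
    rw [← toPSL_neg A]
    refine congrArg _ ?_
    rw [h, neg_one_mul] at hd
    ext i j; fin_cases i <;> fin_cases j <;> simp [coe_uni, h, h10, neg_eq_iff_eq_neg.mp hd]

end Cfsg.Agent.Lib.PushUp.PSLTwo
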