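import Cfsg.Prelude.Def_BaumannBlocks
import Cfsg.Agent.Lib.PushUp.PSLTwo
import Cfsg.Agent.Lib.LocalEven2.Basic
import Cfsg.Agent.Lib.LocalEven2.Embedded

/-!
The basic pushing-up situation: what the quotient `PSL₂` tells about the Sylow subgroup `S`, the
core `O_p(G)` and the unique maximal subgroup over `S`.
-/

set_option autoImplicit false
open scoped Pointwise commutatorElement
open Cfsg

namespace Cfsg.Agent.Lib.PushUp

variable {G : Type*} [Group G] [Finite G] {p : ℕ} [Fact p.Prime]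

/-- The facts used about a pushing-up situation. -/
structure Ctx (p : ℕ) (S M : Subgroup G) : Prop where
  sylow : ∃ P : Sylow p G, (P : Subgroup G) = S
  cent : Subgroup.centralizer (pCore p G : Set G) ≤ pCore p G
  coatom : IsCoatom M
  le : S ≤ M
  uniq : ∀ X : Subgroup G, IsCoatom X → S ≤ X → X = M
  ne : pCore p G ≠ S
  comm : ⁅S, S⁆ ≤ pCore p G
  ti : ∀ x g : G, x ∈ S → x ∉ pCore p G → g * x * g⁻¹ ∈ S → g ∈ M
  irred : ∀ E : Subgroup G, pCore p G ≤ E → E ≤ S →
    Subgroup.normalizer (S : Set G) ≤ Subgroup.normalizer (E : Set G) → E = pCore p G ∨ E = S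
  abelQuot : ∀ N : Subgroup G, N.Normal → pCore p G ≤ N → (∀ a b : G, ⁅a, b⁆ ∈ N) →
    (∀ g : G, ∃ k : ℕ, g ^ p ^ k ∈ N) → N = ⊤ ∨ (pCore p G).relIndex S = p

theorem le_max_of_ne_top {S M X : Subgroup G}
    (huniq : ∀ X : Subgroup G, IsCoatom X → S ≤ X → X = M) (hS : S ≤ X) (hX : X ≠ ⊤) : X ≤ M := by
  obtain ⟨Y, hY, hXY⟩ := (eq_top_or_exists_le_coatom X).resolve_left hX
  exact hXY.trans (huniq Y hY (hS.trans hXY)).le

theorem ctx_of_isPushingUp {S : Subgroup G} (hE : IsPushingUpSituation p S) :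
    ∃ M, Ctx p S M := by
  obtain ⟨-, ⟨P, hPS⟩, hcent, ⟨M, ⟨hMc, hSM⟩, huniq⟩, K₀, hK₀, F, _, _, n, hF, ⟨e⟩⟩ := hE
  haveI : CharP F p := charP_of_card_eq_prime_pow hF
  have hFn : Nat.card F = p ^ n := by rw [Nat.card_eq_fintype_card, hF]
  obtain ⟨P₀, hP₀⟩ := PSLTwo.isSylow (F := F) hFn
  set π₀ : G →* Matrix.ProjectiveSpecialLinearGroup (Fin 2) F :=
    e.toMonoidHom.comp (QuotientGroup.mk' K₀)
  have hπ₀ : Function.Surjective π₀ := e.surjective.comp (QuotientGroup.mk'_surjective K₀)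
  obtain ⟨l, hl⟩ := MulAction.exists_smul_eq (Matrix.ProjectiveSpecialLinearGroup (Fin 2) F) (P.mapSurjective hπ₀) P₀
  set π : G →* Matrix.ProjectiveSpecialLinearGroup (Fin 2) F :=
    (MulAut.conj l).toMonoidHom.comp π₀ with hπdef
  have hπ : Function.Surjective π := (MulAut.conj l).surjective.comp hπ₀
  have hSU : S.map π = PSLTwo.U F := by
    rw [hπdef, ← Subgroup.map_map, ← hP₀, ← hl, Sylow.coe_subgroup_smul,
      Sylow.coe_mapSurjective, hPS]
    rfl
  have uniq : ∀ X : Subgroup G, IsCoatom X → S ≤ X → X = M := fun X h1 h2 => huniq X ⟨h1, h2⟩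
  set K := π.ker with hKdef
  haveI hR : (pCore p G).Normal := Lib.LocalEven2.pCore_normal p G
  have hRp := Lib.LocalEven2.pCore_isPGroup p G
  have hRS : pCore p G ≤ S := hPS ▸ hRp.le_sylow_of_normal P
  -- the preimage of the normalizer of `(PSLTwo.U F)`
  set T := (Subgroup.normalizer (((PSLTwo.U F) : Subgroup _) : Set _)).comap π
  have hST : S ≤ T := by
    intro s hs
    exact Subgroup.le_normalizer (hSU ▸ Subgroup.mem_map_of_mem π hs)
  have hTne : T ≠ ⊤ := by
    intro h
    refine PSLTwo.not_normal (F := F) ((Subgroup.comap_injective hπ) ?_)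
    exact h.trans (Subgroup.comap_top π).symm
  have hTM : T ≤ M := le_max_of_ne_top uniq hST hTne
  have hKT : K ≤ T := by
    intro k hk
    rw [Subgroup.mem_comap, MonoidHom.mem_ker.mp hk]
    exact Subgroup.one_mem _
  -- `R ≤ K`
  have hRK : pCore p G ≤ K := by
    rw [hKdef, ← Subgroup.map_eq_bot_iff]
    by_contra hne
    obtain ⟨x, hx, hx1⟩ := (Subgroup.bot_or_exists_ne_one _).resolve_left hne
    refine PSLTwo.not_normal (F := F) (eq_top_iff.mpr fun g _ => ?_)
    have hn : ((pCore p G).map π).Normal := hR.map π hπ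
    have hle : (pCore p G).map π ≤ (PSLTwo.U F) := hSU ▸ Subgroup.map_mono hRS
    exact PSLTwo.ti (hle hx) hx1 (hle (hn.conj_mem _ hx g))
  -- `S ∩ K ≤ R`
  have hSK : S ⊓ K ≤ pCore p G := by
    haveI : K.Normal := π.normal_ker
    have hP' : IsPGroup p ↥((S ⊓ K).subgroupOf K) :=
      ((hPS ▸ P.2).to_le inf_le_left).of_equiv (Subgroup.subgroupOfEquivOfLe inf_le_right).symm
    have hnd : ¬ p ∣ ((S ⊓ K).subgroupOf K).index :=
      hPS ▸ Lib.LocalEven2.not_dvd_relIndex_inf_subnormal P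
        (Subgroup.Normal.isSubnormal inferInstance)
    have hfr := Sylow.normalizer_sup_eq_top (hP'.toSylow hnd)
    rw [show ((hP'.toSylow hnd : Sylow p ↥K) : Subgroup ↥K) = (S ⊓ K).subgroupOf K from rfl,
      Subgroup.subgroupOf_map_subtype, inf_of_le_left inf_le_right] at hfr
    refine Lib.LocalEven2.le_pCore (Subgroup.normalizer_eq_top_iff.mp ?_)
      ((hPS ▸ P.2).to_le inf_le_left)
    by_contra hne
    have hSN : S ≤ Subgroup.normalizer ((S ⊓ K : Subgroup G) : Set G) := by
      intro s hs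
      exact Subgroup.inf_normalizer_le_normalizer_inf
        ⟨Subgroup.le_normalizer hs, by rw [Subgroup.normalizer_eq_top_iff.mpr π.normal_ker]; trivial⟩
    have := sup_le (le_max_of_ne_top uniq hSN hne) (hKT.trans hTM)
    rw [hfr] at this
    exact hMc.1 (eq_top_iff.mpr this)
  have hxK : ∀ x ∈ S, x ∉ pCore p G → π x ≠ 1 := fun x hx hxR h =>
    hxR (hSK ⟨hx, MonoidHom.mem_ker.mpr h⟩)
  have hne : pCore p G ≠ S := by
    intro h
    have hbot : (PSLTwo.U F) = ⊥ := by rw [← hSU, Subgroup.map_eq_bot_iff, ← h]; exact hRK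
    have h1 := PSLTwo.card_U (F := F)
    rw [hbot, Subgroup.card_bot] at h1
    exact (Finite.one_lt_card (α := F)).ne h1
  have hti : ∀ x g : G, x ∈ S → x ∉ pCore p G → g * x * g⁻¹ ∈ S → g ∈ M := by
    intro x g hx hxR hg
    refine hTM (PSLTwo.ti (hSU ▸ Subgroup.mem_map_of_mem π hx) (hxK x hx hxR) ?_)
    have := Subgroup.mem_map_of_mem π hg
    rw [hSU, map_mul, map_mul, map_inv] at this
    exact this
  -- every element over the normalizer of `(PSLTwo.U F)` is a kernel element times a normalizer of `S`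
  have hfrat : ∀ g ∈ T, ∃ m ∈ Subgroup.normalizer (S : Set G), π m = π g := by
    intro g hg
    haveI : K.Normal := π.normal_ker
    have h1 : (P : Subgroup G) ≤ S ⊔ K := hPS.trans_le le_sup_left
    have h2 : ((g • P : Sylow p G) : Subgroup G) ≤ S ⊔ K := by
      rw [Sylow.coe_subgroup_smul, hPS]
      rintro _ ⟨s, hs, rfl⟩
      have : π (g * s * g⁻¹) ∈ (PSLTwo.U F) := by
        rw [map_mul, map_mul, map_inv]
        exact (Subgroup.mem_normalizer_iff.mp hg _).mp (hSU ▸ Subgroup.mem_map_of_mem π hs)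
      rw [← hSU] at this
      obtain ⟨t, ht, hts⟩ := this
      have hk : t⁻¹ * (g * s * g⁻¹) ∈ K := by
        rw [hKdef, MonoidHom.mem_ker, map_mul, map_inv, hts, inv_mul_cancel]
      have := Subgroup.mul_mem_sup ht hk
      rw [mul_inv_cancel_left] at this
      exact this
    obtain ⟨⟨h, hh⟩, heq⟩ := MulAction.exists_smul_eq ↥(S ⊔ K) ((g • P).subtype h2) (P.subtype h1)
    rw [Sylow.smul_subtype] at heq
    have heq' := Sylow.subtype_injective heq
    rw [Subgroup.smul_def, smul_smul] at heq'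
    have hN := Sylow.smul_eq_iff_mem_normalizer.mp heq'
    replace hN : (h : G) * g ∈ Subgroup.normalizer (S : Set G) := by rw [← hPS]; exact hN
    rw [← SetLike.mem_coe, Subgroup.mul_normal] at hh
    obtain ⟨s, hs, k, hk, hsk⟩ := hh
    refine ⟨s⁻¹ * (h * g), Subgroup.mul_mem _ (Subgroup.inv_mem _ (Subgroup.le_normalizer hs)) hN,
      ?_⟩
    rw [map_mul, map_inv, map_mul, ← hsk, map_mul, MonoidHom.mem_ker.mp hk, mul_one,
      inv_mul_cancel_left]
  refine ⟨M, ⟨P, hPS⟩, hcent, hMc, hSM, uniq, hne, ?_, hti, ?_, ?_⟩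
  · refine Subgroup.commutator_le.mpr fun a ha b hb => hSK ⟨?_, ?_⟩
    · exact S.mul_mem (S.mul_mem (S.mul_mem ha hb) (S.inv_mem ha)) (S.inv_mem hb)
    · show π _ = 1
      rw [map_commutatorElement, commutatorElement_eq_one_iff_mul_comm]
      exact PSLTwo.comm_U (hSU ▸ Subgroup.mem_map_of_mem π ha) (hSU ▸ Subgroup.mem_map_of_mem π hb)
  · intro E hRE hES hN
    have hinv : ∀ l ∈ Subgroup.normalizer (((PSLTwo.U F) : Subgroup _) : Set _), ∀ h ∈ E.map π,
        l * h * l⁻¹ ∈ E.map π := by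
      intro l hl h hh
      obtain ⟨g, rfl⟩ := hπ l
      obtain ⟨m, hm, hmg⟩ := hfrat g hl
      obtain ⟨x, hx, rfl⟩ := hh
      rw [← hmg, ← map_inv, ← map_mul, ← map_mul]
      exact Subgroup.mem_map_of_mem π ((Subgroup.mem_normalizer_iff.mp (hN hm) x).mp hx)
    rcases PSLTwo.irred (hSU ▸ Subgroup.map_mono hES) hinv with h | h
    · left
      refine le_antisymm (fun x hx => hSK ⟨hES hx, ?_⟩) hRE
      rw [hKdef]
      exact (Subgroup.map_eq_bot_iff _).mp h hx
    · right
      refine le_antisymm hES fun s hs => ?_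
      have := (hSU.trans h.symm) ▸ Subgroup.mem_map_of_mem π hs
      obtain ⟨x, hx, hxs⟩ := this
      have hker : x⁻¹ * s ∈ S ⊓ K :=
        ⟨S.mul_mem (S.inv_mem (hES hx)) hs, by
          show π _ = 1; rw [map_mul, map_inv, hxs, inv_mul_cancel]⟩
      have := E.mul_mem hx (hRE (hSK hker))
      rwa [mul_inv_cancel_left] at this
  · intro N hN hRN hcomm hpow
    haveI := hN
    set N' := N.map π with hN'
    haveI hN'n : N'.Normal := hN.map π hπ
    have hinv : ∀ l ∈ Subgroup.normalizer (((PSLTwo.U F) : Subgroup _) : Set _), ∀ h ∈ N' ⊓ (PSLTwo.U F),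
        l * h * l⁻¹ ∈ N' ⊓ (PSLTwo.U F) := fun l hl h hh =>
      ⟨hN'n.conj_mem _ hh.1 l, (Subgroup.mem_normalizer_iff.mp hl _).mp hh.2⟩
    rcases PSLTwo.irred (inf_le_right : N' ⊓ (PSLTwo.U F) ≤ (PSLTwo.U F)) hinv with h | h
    · right
      -- `(PSLTwo.U F)` is centralized by its normalizer, so it has prime order
      have hcent : ∀ l ∈ Subgroup.normalizer (((PSLTwo.U F) : Subgroup _) : Set _), ∀ u ∈ (PSLTwo.U F), l * u * l⁻¹ = u := by
        intro l hl u hu
        have hcu : l * u * l⁻¹ * u⁻¹ ∈ N' ⊓ (PSLTwo.U F) := by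
          refine ⟨?_, (PSLTwo.U F).mul_mem ((Subgroup.mem_normalizer_iff.mp hl _).mp hu) ((PSLTwo.U F).inv_mem hu)⟩
          obtain ⟨a, rfl⟩ := hπ l
          obtain ⟨b, rfl⟩ := hπ u
          exact ⟨⁅a, b⁆, hcomm a b, map_commutatorElement π a b⟩
        rw [h, Subgroup.mem_bot] at hcu
        exact mul_inv_eq_one.mp hcu
      have hUp : IsPGroup p ↥(PSLTwo.U F) := PSLTwo.isPGroup_U hFn
      haveI : Nontrivial ↥(PSLTwo.U F) := by
        rw [← Finite.one_lt_card_iff_nontrivial, PSLTwo.card_U]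
        exact Finite.one_lt_card
      obtain ⟨k, hk, hcard⟩ := hUp.nontrivial_iff_card.mp inferInstance
      obtain ⟨u, hu⟩ := exists_prime_orderOf_dvd_card' (G := ↥(PSLTwo.U F)) p
        (hcard ▸ dvd_pow_self p hk.ne')
      have hu' : orderOf (u : Matrix.ProjectiveSpecialLinearGroup (Fin 2) F) = p := by
        rw [Subgroup.orderOf_coe, hu]
      rcases PSLTwo.irred (Subgroup.zpowers_le.mpr u.2) (fun l hl x hx => by
          rwa [hcent l hl x (Subgroup.zpowers_le.mpr u.2 hx)]) with h0 | h0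
      · rw [Subgroup.zpowers_eq_bot] at h0
        rw [h0, orderOf_one] at hu'
        exact absurd hu'.symm (Fact.out : p.Prime).ne_one
      · have : Nat.card ↥(PSLTwo.U F) = p := by
          rw [← h0, Nat.card_zpowers, hu']
        refine Eq.trans ?_ this
        rw [← hSU, show pCore p G = K ⊓ S from le_antisymm (le_inf hRK hRS) (inf_comm K S ▸ hSK),
          Subgroup.inf_relIndex_right, hKdef, Subgroup.relIndex_ker]
    · left
      have hUN : (PSLTwo.U F) ≤ N' := h ▸ inf_le_left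
      have hN'top : N' = ⊤ := by
        have hq : IsPGroup p (Matrix.ProjectiveSpecialLinearGroup (Fin 2) F ⧸ N') := fun x => by
          obtain ⟨y, rfl⟩ := QuotientGroup.mk'_surjective N' x
          obtain ⟨g, rfl⟩ := hπ y
          obtain ⟨k, hk⟩ := hpow g
          refine ⟨k, ?_⟩
          rw [← map_pow, QuotientGroup.mk'_apply, QuotientGroup.eq_one_iff, ← map_pow]
          exact Subgroup.mem_map_of_mem π hk
        obtain ⟨k, hk⟩ := IsPGroup.iff_card.mp hq
        rw [← Subgroup.index_eq_card] at hk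
        refine Subgroup.index_eq_one.mp (hk.trans ?_)
        rcases Nat.eq_zero_or_pos k with rfl | hk0
        · exact pow_zero p
        · exfalso
          have hd : N'.index ∣ (PSLTwo.U F).index := Subgroup.index_dvd_of_le hUN
          rw [hk, ← hP₀] at hd
          exact P₀.not_dvd_index ((dvd_pow_self p hk0.ne').trans hd)
      by_contra hNtop
      have hq : IsPGroup p (G ⧸ N) := fun x => by
        obtain ⟨g, rfl⟩ := QuotientGroup.mk'_surjective N x
        obtain ⟨k, hk⟩ := hpow g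
        exact ⟨k, by rw [← map_pow, QuotientGroup.mk'_apply, QuotientGroup.eq_one_iff]; exact hk⟩
      -- `S ≤ N`
      have hnd : ¬ p ∣ (S ⊓ N).relIndex N :=
        hPS ▸ Lib.LocalEven2.not_dvd_relIndex_inf_subnormal P hN.isSubnormal
      have hmap : (S ⊓ N).map π = PSLTwo.U F := by
        have hP' : IsPGroup p ↥((S ⊓ N).subgroupOf N) :=
          ((hPS ▸ P.2).to_le inf_le_left).of_equiv (Subgroup.subgroupOfEquivOfLe inf_le_right).symm
        have hf : Function.Surjective (π.comp N.subtype) := by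
          intro y
          obtain ⟨x, hx, rfl⟩ := (show y ∈ N.map π by rw [← hN', hN'top]; trivial)
          exact ⟨⟨x, hx⟩, rfl⟩
        set Q := (hP'.toSylow hnd).mapSurjective hf
        have hQ : (Q : Subgroup _) = (S ⊓ N).map π := by
          rw [Sylow.coe_mapSurjective, show ((hP'.toSylow hnd : Sylow p ↥N) : Subgroup ↥N) =
            (S ⊓ N).subgroupOf N from rfl, ← Subgroup.map_map, Subgroup.subgroupOf_map_subtype,
            inf_of_le_left inf_le_right]
        have hle : (Q : Subgroup (Matrix.ProjectiveSpecialLinearGroup (Fin 2) F)) ≤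
            (P₀ : Subgroup (Matrix.ProjectiveSpecialLinearGroup (Fin 2) F)) := by
          rw [hQ, hP₀, ← hSU]
          exact Subgroup.map_mono inf_le_left
        rw [← hQ, ← hP₀]
        exact (Q.3 P₀.2 hle).symm
      have hSN : S ≤ N := by
        intro s hs
        have h1 : π s ∈ (S ⊓ N).map π := hmap.symm ▸ (hSU ▸ Subgroup.mem_map_of_mem π hs)
        obtain ⟨x, hx, hxs⟩ := h1
        have hker : x⁻¹ * s ∈ S ⊓ K :=
          ⟨S.mul_mem (S.inv_mem hx.1) hs, by
            show π _ = 1; rw [map_mul, map_inv, hxs, inv_mul_cancel]⟩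
        have := N.mul_mem hx.2 (hRN (hSK hker))
        rwa [mul_inv_cancel_left] at this
      obtain ⟨k, hk⟩ := IsPGroup.iff_card.mp hq
      rw [← Subgroup.index_eq_card] at hk
      rcases Nat.eq_zero_or_pos k with rfl | hk0
      · exact hNtop (Subgroup.index_eq_one.mp (hk.trans (pow_zero p)))
      · have hd : N.index ∣ S.index := Subgroup.index_dvd_of_le hSN
        rw [hk, ← hPS] at hd
        exact P.not_dvd_index ((dvd_pow_self p hk0.ne').trans hd)

end Cfsg.Agent.Lib.PushUp
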