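import Cfsg.Agent.Lib.PushUp.Basic
import Cfsg.Agent.Lib.LocalEven2.CD
import Cfsg.Agent.Lib.Solvable.Nilpotent

/-!
In a pushing-up situation a normal subgroup in `Z(O_p(G))`, not central in `G`, is no failure of
factorization worse than the natural module: `|E| · |C_U(E)| ≤ |R| · |U|` for `R ≤ E ≤ S`.
-/

set_option autoImplicit false
open scoped Pointwise commutatorElement
open Cfsg

namespace Cfsg.Agent.Lib.PushUp

variable {G : Type*} [Group G] [Finite G] {p : ℕ} [Fact p.Prime] {S M : Subgroup G}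

namespace Ctx

variable (h : Ctx p S M)
include h

theorem isP : IsPGroup p ↥S := by
  obtain ⟨P, hP⟩ := h.sylow
  exact hP ▸ P.2

theorem core_le : pCore p G ≤ S := by
  obtain ⟨P, hP⟩ := h.sylow
  haveI := Lib.LocalEven2.pCore_normal p G
  exact hP ▸ (Lib.LocalEven2.pCore_isPGroup p G).le_sylow_of_normal P

theorem exists_not_mem : ∃ g : G, g ∉ M := by
  by_contra hc
  push Not at hc
  exact h.coatom.1 (eq_top_iff.mpr fun g _ => hc g)

theorem normalizer_le : Subgroup.normalizer (S : Set G) ≤ M := by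
  refine le_max_of_ne_top h.uniq Subgroup.le_normalizer fun hN => h.ne (le_antisymm h.core_le ?_)
  exact Lib.LocalEven2.le_pCore (Subgroup.normalizer_eq_top_iff.mp hN) h.isP

theorem gen {H : Subgroup G} {g : G} (hg : g ∉ M) (hS : S ≤ H)
    (hgS : ∀ s ∈ S, g * s * g⁻¹ ∈ H) : H = ⊤ := by
  by_contra hH
  have hHM := le_max_of_ne_top h.uniq hS hH
  obtain ⟨P, hP⟩ := h.sylow
  have h1 : (P : Subgroup G) ≤ M := hP ▸ h.le
  have h2 : ((g • P : Sylow p G) : Subgroup G) ≤ M := by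
    rw [Sylow.coe_subgroup_smul, hP]
    rintro _ ⟨s, hs, rfl⟩
    exact hHM (hgS s hs)
  obtain ⟨⟨m, hm⟩, heq⟩ := MulAction.exists_smul_eq ↥M ((g • P).subtype h2) (P.subtype h1)
  rw [Sylow.smul_subtype] at heq
  have heq' := Sylow.subtype_injective heq
  rw [Subgroup.smul_def, smul_smul] at heq'
  have hN := Sylow.smul_eq_iff_mem_normalizer.mp heq'
  replace hN : m * g ∈ Subgroup.normalizer (S : Set G) := by rw [← hP]; exact hN
  have := M.mul_mem (M.inv_mem hm) (h.normalizer_le hN)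
  rw [inv_mul_cancel_left] at this
  exact hg this

theorem not_mem_max {x g : G} (hx : x ∈ S) (hxR : x ∉ pCore p G) (hg : g ∉ M) :
    g * x * g⁻¹ ∉ M := by
  intro hy
  obtain ⟨P, hP⟩ := h.sylow
  have h1 : (P : Subgroup G) ≤ M := hP ▸ h.le
  have hz : IsPGroup p ↥((Subgroup.zpowers (g * x * g⁻¹)).subgroupOf M) := by
    refine IsPGroup.of_equiv ?_ (Subgroup.subgroupOfEquivOfLe (Subgroup.zpowers_le.mpr hy)).symm
    have := (h.isP.to_le (Subgroup.zpowers_le.mpr hx)).map (MulAut.conj g).toMonoidHom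
    rwa [MonoidHom.map_zpowers] at this
  obtain ⟨Q, hQ⟩ := hz.exists_le_sylow
  obtain ⟨m, hm⟩ := MulAction.exists_smul_eq ↥M Q (P.subtype h1)
  have hyQ : (⟨g * x * g⁻¹, hy⟩ : ↥M) ∈ (Q : Subgroup ↥M) := hQ (Subgroup.mem_zpowers _)
  have hmS : m * ⟨g * x * g⁻¹, hy⟩ * m⁻¹ ∈ ((P.subtype h1 : Sylow p ↥M) : Subgroup ↥M) := by
    rw [← hm, Sylow.coe_subgroup_smul]
    exact ⟨_, hyQ, rfl⟩
  have hmS' : (m : G) * (g * x * g⁻¹) * (m : G)⁻¹ ∈ S := hP ▸ hmS
  rw [show (m : G) * (g * x * g⁻¹) * (m : G)⁻¹ = ((m : G) * g) * x * ((m : G) * g)⁻¹ by group]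
    at hmS'
  have := M.mul_mem (M.inv_mem m.2) (h.ti x _ hx hxR hmS')
  rw [inv_mul_cancel_left] at this
  exact hg this

theorem gen_elem {H : Subgroup G} {x g : G} (hx : x ∈ S) (hxR : x ∉ pCore p G) (hg : g ∉ M)
    (hxH : x ∈ H) (hgS : ∀ s ∈ S, g * s * g⁻¹ ∈ H) : H = ⊤ := by
  by_contra hH
  have hne : H.comap (MulAut.conj g).toMonoidHom ≠ ⊤ := fun hc => hH
    (Subgroup.comap_injective (MulAut.conj g).surjective (hc.trans (Subgroup.comap_top _).symm))
  have hle := le_max_of_ne_top h.uniq (fun s hs => hgS s hs) hne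
  have hm : g⁻¹ * x * g ∈ H.comap (MulAut.conj g).toMonoidHom := by
    show g * (g⁻¹ * x * g) * g⁻¹ ∈ H
    rwa [show g * (g⁻¹ * x * g) * g⁻¹ = x by group]
  refine h.not_mem_max hx hxR (g := g⁻¹) (fun hc => hg ?_) ?_
  · simpa using M.inv_mem hc
  · simpa using hle hm

/-- A normal subgroup with a `p`-element outside `O_p(G)` supplements `S`. -/
theorem normal_sup_eq_top {N : Subgroup G} (hN : N.Normal) {x : G} (hx : x ∈ N) (hxS : x ∈ S)
    (hxR : x ∉ pCore p G) : N ⊔ S = ⊤ := by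
  obtain ⟨g, hg⟩ := h.exists_not_mem
  have := h.gen_elem (H := (N ⊔ S).comap (MulAut.conj g⁻¹).toMonoidHom) hxS hxR hg
    (Subgroup.mem_sup_left (hN.conj_mem x hx g⁻¹))
    (fun s hs => by
      show g⁻¹ * (g * s * g⁻¹) * g⁻¹⁻¹ ∈ N ⊔ S
      rw [show g⁻¹ * (g * s * g⁻¹) * g⁻¹⁻¹ = s by group]
      exact Subgroup.mem_sup_right hs)
  exact Subgroup.comap_injective (MulAut.conj g⁻¹).surjective (this.trans (Subgroup.comap_top _).symm)

theorem normal_eq_top {N : Subgroup G} (hN : N.Normal) (hS : S ≤ N) : N = ⊤ := by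
  obtain ⟨x, hx, hxR⟩ := SetLike.exists_of_lt (lt_of_le_of_ne h.core_le h.ne)
  have := h.normal_sup_eq_top hN (hS hx) hx hxR
  rwa [sup_eq_left.mpr hS] at this

theorem core_normal : (pCore p G).Normal := Lib.LocalEven2.pCore_normal p G

variable {V : Subgroup G} (hVn : V.Normal)
  (hVR : V ≤ pCore p G ⊓ Subgroup.centralizer (pCore p G : Set G))
  (hV : ¬ V ≤ Subgroup.center G)
include hVn hVR hV

theorem sylow_not_centralizing : ¬ S ≤ Subgroup.centralizer (V : Set G) := by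
  intro hS
  haveI := hVn
  refine hV ?_
  rw [← Subgroup.centralizer_univ, ← Subgroup.coe_top, Subgroup.le_centralizer_iff]
  exact (h.normal_eq_top Subgroup.normal_centralizer hS).ge

theorem bound_full :
    (pCore p G).relIndex S * Nat.card ↥(V ⊓ Subgroup.centralizer (S : Set G)) ≤ Nat.card ↥V := by
  classical
  have hVS : V ≤ S := hVR.trans (inf_le_left.trans h.core_le)
  have hVp := h.isP.to_le hVS
  by_cases hq : (pCore p G).relIndex S = p
  · -- the trivial case
    rw [hq]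
    obtain ⟨a, ha⟩ := IsPGroup.iff_card.mp hVp
    obtain ⟨b, hb⟩ := IsPGroup.iff_card.mp (hVp.to_le (inf_le_left :
      V ⊓ Subgroup.centralizer (S : Set G) ≤ V))
    have hlt : Nat.card ↥(V ⊓ Subgroup.centralizer (S : Set G)) < Nat.card ↥V := by
      refine lt_of_le_of_ne (Subgroup.card_le_of_le inf_le_left) fun he => ?_
      have := Subgroup.eq_of_le_of_card_ge inf_le_left he.ge
      exact h.sylow_not_centralizing hVn hVR hV (Subgroup.le_centralizer_iff.mp (inf_eq_left.mp this))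
    rw [ha, hb] at hlt ⊢
    rw [← pow_succ']
    exact Nat.pow_le_pow_right (Fact.out : p.Prime).pos
      ((Nat.pow_lt_pow_iff_right (Fact.out : p.Prime).one_lt).mp hlt)
  set L₀ := V ⊓ Subgroup.center G
  haveI hL₀ : L₀.Normal := ⟨fun x hx g => by
    rw [show g * x * g⁻¹ = x by rw [Subgroup.mem_center_iff.mp hx.2 g, mul_inv_cancel_right]]
    exact hx⟩
  set f := QuotientGroup.mk' L₀
  have hf : Function.Surjective f := QuotientGroup.mk'_surjective L₀
  haveI hVbn : (V.map f).Normal := hVn.map f hf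
  -- central elements of the image of `V` are trivial
  have hZ : ∀ u ∈ V, (∀ g : G, Commute (f g) (f u)) → f u = 1 := by
    intro u hu hc
    have hcc : ∀ g : G, g * u * g⁻¹ * u⁻¹ ∈ L₀ := fun g => by
      rw [← QuotientGroup.eq_one_iff (N := L₀), ← QuotientGroup.mk'_apply, map_mul, map_mul,
        map_mul, map_inv, map_inv, show f g * f u = f u * f g from hc g, mul_inv_cancel_right,
        mul_inv_cancel]
    set N : Subgroup G := Subgroup.centralizer ({u} : Set G)
    have hmemN : ∀ g : G, g ∈ N ↔ g * u * g⁻¹ * u⁻¹ = 1 := fun g => by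
      rw [Subgroup.mem_centralizer_singleton_iff, mul_inv_eq_one, mul_inv_eq_iff_eq_mul]
    have hmul : ∀ a b : G, (a * b) * u * (a * b)⁻¹ * u⁻¹ =
        (a * u * a⁻¹ * u⁻¹) * (b * u * b⁻¹ * u⁻¹) := by
      intro a b
      have hb := Subgroup.mem_center_iff.mp (hcc b).2
      calc (a * b) * u * (a * b)⁻¹ * u⁻¹
          = a * ((b * u * b⁻¹ * u⁻¹) * (u * a⁻¹ * u⁻¹)) := by group
        _ = a * ((u * a⁻¹ * u⁻¹) * (b * u * b⁻¹ * u⁻¹)) := by rw [hb]
        _ = _ := by group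
    let φ : G →* ↥L₀ := MonoidHom.mk' (fun g => ⟨_, hcc g⟩) fun a b => Subtype.ext (hmul a b)
    have hφ : ∀ g, g ∈ N ↔ g ∈ φ.ker := fun g => by
      rw [hmemN, MonoidHom.mem_ker, Subtype.ext_iff]
      rfl
    have hNk : N = φ.ker := Subgroup.ext hφ
    have hNtop : N = ⊤ := by
      refine (h.abelQuot N (hNk ▸ φ.normal_ker) ?_ (fun a b => ?_) (fun g => ?_)).resolve_right hq
      · intro r hr
        rw [Subgroup.mem_centralizer_singleton_iff]
        exact (Subgroup.mem_centralizer_iff.mp (hVR hu).2 r hr)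
      · rw [hφ, MonoidHom.mem_ker, map_commutatorElement, commutatorElement_eq_one_iff_mul_comm]
        exact Subtype.ext (Subgroup.mem_center_iff.mp (φ b).2.2 (φ a : G))
      · obtain ⟨k, hk⟩ := hVp.to_le (inf_le_left : L₀ ≤ V) (φ g)
        exact ⟨k, by rw [hφ, MonoidHom.mem_ker, map_pow, hk]⟩
    refine (QuotientGroup.eq_one_iff u).mpr ⟨hu, Subgroup.mem_center_iff.mpr fun g => ?_⟩
    exact Subgroup.mem_centralizer_singleton_iff.mp (hNtop ▸ Subgroup.mem_top g : g ∈ N)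
  set C := V.map f ⊓ Subgroup.centralizer (S.map f : Set (G ⧸ L₀))
  -- key: conjugates of `C` meet trivially
  have hTI : ∀ g : G, g ∉ M → ∀ c ∈ C, f g * c * (f g)⁻¹ ∈ C → c = 1 := by
    intro g hg c hc hd
    obtain ⟨u, hu, hud⟩ := hd.1
    set H := (Subgroup.centralizer ({f u} : Set (G ⧸ L₀))).comap f
    have hH : H = ⊤ := by
      refine h.gen hg (fun s hs => ?_) (fun s hs => ?_)
      · rw [Subgroup.mem_comap, Subgroup.mem_centralizer_singleton_iff, hud]
        exact Subgroup.mem_centralizer_iff.mp hd.2 _ (Subgroup.mem_map_of_mem f hs)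
      · have := Subgroup.mem_centralizer_iff.mp hc.2 _ (Subgroup.mem_map_of_mem f hs)
        rw [Subgroup.mem_comap, Subgroup.mem_centralizer_singleton_iff, hud, map_mul, map_mul, map_inv]
        calc f g * f s * (f g)⁻¹ * (f g * c * (f g)⁻¹)
            = f g * (f s * c) * (f g)⁻¹ := by group
          _ = f g * (c * f s) * (f g)⁻¹ := by rw [this]
          _ = _ := by group
    have h1 := hZ u hu fun g' => Subgroup.mem_centralizer_singleton_iff.mp
      (hH ▸ Subgroup.mem_top g' : g' ∈ H)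
    rw [hud, conj_eq_one_iff] at h1
    exact h1
  obtain ⟨g₀, hg₀⟩ := h.exists_not_mem
  -- `C` is nontrivial
  have hC : C ≠ ⊥ := by
    have hSp := h.isP.map f
    haveI : Group.IsNilpotent ↥(S.map f) := hSp.isNilpotent
    have hle : V.map f ≤ S.map f := Subgroup.map_mono hVS
    have hne : (V.map f).subgroupOf (S.map f) ≠ ⊥ := by
      rw [Ne, Subgroup.subgroupOf_eq_bot, disjoint_iff, inf_eq_left.mpr hle, Subgroup.map_eq_bot_iff,
        QuotientGroup.ker_mk']
      exact fun hc => hV (hc.trans inf_le_right)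
    obtain ⟨x, hx, hx1⟩ :=
      (Subgroup.bot_or_exists_ne_one _).resolve_left (Lib.Solvable.inf_center_ne_bot hne)
    intro hbot
    refine hx1 (Subtype.ext ?_)
    have : (x : G ⧸ L₀) ∈ C := ⟨hx.1, Subgroup.mem_centralizer_iff.mpr fun y hy =>
      congrArg Subtype.val (Subgroup.mem_center_iff.mp hx.2 ⟨y, hy⟩)⟩
    rwa [hbot, Subgroup.mem_bot] at this
  -- counting
  let Q' := ↥S ⧸ (pCore p G).subgroupOf S
  let rep : Option Q' → G := fun o => o.elim 1 fun t => ((Quotient.out t : ↥S) : G) * g₀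
  have hrep : ∀ a b, a ≠ b → (rep b)⁻¹ * rep a ∉ M := by
    rintro (_ | t) (_ | t') hab
    · exact absurd rfl hab
    · intro hm
      simp only [rep, Option.elim_none, Option.elim_some, mul_one] at hm
      have h1 := M.mul_mem (M.inv_mem (h.le (Quotient.out t').2)) (M.inv_mem hm)
      rw [inv_inv, inv_mul_cancel_left] at h1
      exact hg₀ h1
    · intro hm
      simp only [rep, Option.elim_none, Option.elim_some, inv_one, one_mul] at hm
      have h1 := M.mul_mem (M.inv_mem (h.le (Quotient.out t).2)) hm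
      rw [inv_mul_cancel_left] at h1
      exact hg₀ h1
    · intro hm
      simp only [rep, Option.elim_some] at hm
      have hx : ((Quotient.out t' : ↥S) : G)⁻¹ * (Quotient.out t : ↥S) ∈ S :=
        S.mul_mem (S.inv_mem (Quotient.out t').2) (Quotient.out t).2
      refine h.not_mem_max (g := g₀⁻¹) hx (fun hR => hab ?_) (fun hc => hg₀ ?_) ?_
      · rw [← QuotientGroup.out_eq' t, ← QuotientGroup.out_eq' t']
        exact congrArg some (QuotientGroup.eq.mpr (show (Quotient.out t')⁻¹ * Quotient.out t ∈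
          (pCore p G).subgroupOf S from hR)).symm
      · simpa using M.inv_mem hc
      · convert hm using 1
        group
  let C' := {c : ↥C // c ≠ 1}
  let Ψ : Option Q' × C' → {v : ↥(V.map f) // v ≠ 1} := fun z =>
    ⟨⟨f (rep z.1) * ((z.2.1 : ↥C) : G ⧸ L₀) * (f (rep z.1))⁻¹, hVbn.conj_mem _ z.2.1.2.1 _⟩,
      fun hc => z.2.2 (Subtype.ext (conj_eq_one_iff.mp (congrArg Subtype.val hc)))⟩
  have hΨ : Function.Injective Ψ := by
    rintro ⟨a, c⟩ ⟨b, d⟩ hab
    have heq : f (rep a) * ((c.1 : ↥C) : G ⧸ L₀) * (f (rep a))⁻¹ =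
        f (rep b) * ((d.1 : ↥C) : G ⧸ L₀) * (f (rep b))⁻¹ :=
      congrArg (fun v : {v : ↥(V.map f) // v ≠ 1} => ((v.1 : ↥(V.map f)) : G ⧸ L₀)) hab
    have hne : a = b := by
      by_contra hne
      refine c.2 (Subtype.ext (hTI _ (hrep a b hne) _ c.1.2 ?_))
      rw [map_mul, map_inv]
      rw [show (f (rep b))⁻¹ * f (rep a) * ((c.1 : ↥C) : G ⧸ L₀) * ((f (rep b))⁻¹ * f (rep a))⁻¹ =
        (f (rep b))⁻¹ * (f (rep a) * ((c.1 : ↥C) : G ⧸ L₀) * (f (rep a))⁻¹) * f (rep b) by group,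
        heq, show (f (rep b))⁻¹ * (f (rep b) * ((d.1 : ↥C) : G ⧸ L₀) * (f (rep b))⁻¹) * f (rep b) =
        ((d.1 : ↥C) : G ⧸ L₀) by group]
      exact d.1.2
    subst hne
    exact Prod.ext rfl (Subtype.ext (Subtype.ext (mul_left_cancel (mul_right_cancel heq))))
  have hcount := Nat.card_le_card_of_injective Ψ hΨ
  have hc1 : ∀ (H : Subgroup (G ⧸ L₀)), Nat.card {c : ↥H // c ≠ 1} = Nat.card ↥H - 1 := fun H => by
    haveI := Fintype.ofFinite ↥H
    rw [Nat.card_eq_fintype_card, Fintype.card_subtype_compl, Fintype.card_subtype_eq,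
      Nat.card_eq_fintype_card]
  rw [Nat.card_prod, Finite.card_option, hc1, hc1] at hcount
  have hqc : Nat.card Q' = (pCore p G).relIndex S := rfl
  rw [hqc] at hcount
  obtain ⟨k, hk⟩ : ∃ k, (pCore p G).relIndex S = p ^ k := by
    obtain ⟨k, hk⟩ := h.isP.index ((pCore p G).subgroupOf S)
    exact ⟨k, hk⟩
  obtain ⟨i, hi⟩ := IsPGroup.iff_card.mp (hVp.map f)
  obtain ⟨j, hj⟩ := IsPGroup.iff_card.mp ((hVp.map f).to_le (inf_le_left : C ≤ V.map f))
  have hj0 : 0 < j := Nat.pos_of_ne_zero fun hj0 => hC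
    (Subgroup.card_eq_one.mp (hj.trans (by rw [hj0, pow_zero])))
  rw [hk, hi, hj] at hcount
  have hkij : k + j ≤ i := by
    by_contra hc
    have hp1 := (Fact.out : p.Prime).one_lt
    have h1 : p ^ i ≤ p ^ (k + j - 1) := Nat.pow_le_pow_right (by omega) (by omega)
    have h2 : p ^ k ≤ p ^ (k + j - 1) := Nat.pow_le_pow_right (by omega) (by omega)
    have h3 : 2 * p ^ (k + j - 1) ≤ p ^ (k + j) := by
      obtain ⟨e, he⟩ : ∃ e, k + j = e + 1 := ⟨k + j - 1, by omega⟩
      rw [he, Nat.add_sub_cancel, pow_succ, mul_comm (p ^ e) p]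
      exact Nat.mul_le_mul_right _ hp1
    rw [pow_add] at h3
    have h4 : 1 ≤ p ^ i := Nat.one_le_pow _ _ (by omega)
    obtain ⟨w, hw⟩ : ∃ w, p ^ j = w + 1 := ⟨p ^ j - 1, by
      have : 1 ≤ p ^ j := Nat.one_le_pow _ _ (by omega)
      omega⟩
    have h5 : 1 ≤ w := by
      have : p ≤ p ^ j := Nat.le_self_pow hj0.ne' p
      omega
    rw [hw, Nat.add_sub_cancel] at hcount
    rw [hw, mul_add, mul_one] at h3
    rw [add_mul, one_mul] at hcount
    omega
  -- back to `G`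
  have hfix : Nat.card ↥(V ⊓ Subgroup.centralizer (S : Set G)) ≤ Nat.card ↥L₀ * p ^ j := by
    rw [← hj]
    have h1 : Nat.card ↥((V ⊓ Subgroup.centralizer (S : Set G)).map f) ≤ Nat.card ↥C := by
      refine Subgroup.card_le_of_le ?_
      rintro _ ⟨u, hu, rfl⟩
      refine ⟨Subgroup.mem_map_of_mem f hu.1, Subgroup.mem_centralizer_iff.mpr ?_⟩
      rintro _ ⟨s, hs, rfl⟩
      rw [← map_mul, ← map_mul, Subgroup.mem_centralizer_iff.mp hu.2 s hs]
    refine le_trans (le_of_eq ?_) (Nat.mul_le_mul_left _ h1)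
    rw [← Subgroup.relIndex_ker, QuotientGroup.ker_mk',
      ← Subgroup.card_mul_index (L₀.subgroupOf (V ⊓ Subgroup.centralizer (S : Set G))),
      Nat.card_congr (Subgroup.subgroupOfEquivOfLe (?_ : L₀ ≤ V ⊓ Subgroup.centralizer (S : Set G))).toEquiv]
    · rfl
    · exact fun x hx => ⟨hx.1, Subgroup.center_le_centralizer _ hx.2⟩
  have hVc : Nat.card ↥V = Nat.card ↥L₀ * p ^ i := by
    rw [← hi, ← Subgroup.relIndex_ker, QuotientGroup.ker_mk',
      ← Subgroup.card_mul_index (L₀.subgroupOf V),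
      Nat.card_congr (Subgroup.subgroupOfEquivOfLe (inf_le_left : L₀ ≤ V)).toEquiv]
    rfl
  calc (pCore p G).relIndex S * Nat.card ↥(V ⊓ Subgroup.centralizer (S : Set G))
      ≤ p ^ k * (Nat.card ↥L₀ * p ^ j) := by rw [hk]; exact Nat.mul_le_mul_left _ hfix
    _ = Nat.card ↥L₀ * p ^ (k + j) := by ring
    _ ≤ Nat.card ↥V := hVc ▸ Nat.mul_le_mul_left _ (Nat.pow_le_pow_right (Fact.out : p.Prime).pos hkij)

/-- The bound for all intermediate groups. -/
theorem bound {E : Subgroup G} (hRE : pCore p G ≤ E) (hES : E ≤ S) :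
    Nat.card ↥E * Nat.card ↥(V ⊓ Subgroup.centralizer (E : Set G)) ≤
      Nat.card ↥(pCore p G) * Nat.card ↥V := by
  classical
  let m : Subgroup G → ℕ := fun E => Nat.card ↥E * Nat.card ↥(V ⊓ Subgroup.centralizer (E : Set G))
  have hmR : m (pCore p G) = Nat.card ↥(pCore p G) * Nat.card ↥V := by
    show _ * Nat.card ↥(V ⊓ _) = _
    rw [inf_eq_left.mpr (hVR.trans inf_le_right)]
  set A : Set (Subgroup G) := {E | pCore p G ≤ E ∧ E ≤ S}
  obtain ⟨E₁, hE₁, hmax⟩ := Set.exists_max_image A m (Set.toFinite _) ⟨_, le_rfl, h.core_le⟩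
  obtain ⟨E₀, ⟨hE₀, hE₀m⟩, hE₀max⟩ := Set.Finite.exists_maximalFor (fun E : Subgroup G => E)
    {E | E ∈ A ∧ m E₁ ≤ m E} (Set.toFinite _) ⟨E₁, hE₁, le_rfl⟩
  have hgreat : ∀ E ∈ A, m E₁ ≤ m E → E ≤ E₀ := by
    intro E hE hEm
    have hAs : E₀ ⊔ E ∈ A := ⟨hE₀.1.trans le_sup_left, sup_le hE₀.2 hE.2⟩
    have hAi : E₀ ⊓ E ∈ A := ⟨le_inf hE₀.1 hE.1, inf_le_left.trans hE₀.2⟩
    have h1 := Lib.LocalEven2.CD.card_mul_le_sup E₀ E
    have h2 := Lib.LocalEven2.CD.card_mul_le_sup (V ⊓ Subgroup.centralizer (E₀ : Set G))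
      (V ⊓ Subgroup.centralizer (E : Set G))
    have h3 : (V ⊓ Subgroup.centralizer (E₀ : Set G)) ⊔ (V ⊓ Subgroup.centralizer (E : Set G)) ≤
        V ⊓ Subgroup.centralizer ((E₀ ⊓ E : Subgroup G) : Set G) :=
      sup_le (inf_le_inf_left _ (Subgroup.centralizer_le inf_le_left))
        (inf_le_inf_left _ (Subgroup.centralizer_le inf_le_right))
    have h4 : (V ⊓ Subgroup.centralizer (E₀ : Set G)) ⊓ (V ⊓ Subgroup.centralizer (E : Set G)) ≤
        V ⊓ Subgroup.centralizer ((E₀ ⊔ E : Subgroup G) : Set G) := by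
      rw [Lib.LocalEven2.CD.centralizer_sup]
      exact le_inf (inf_le_left.trans inf_le_left)
        (inf_le_inf inf_le_right inf_le_right)
    have hsub : m E₀ * m E ≤ m (E₀ ⊔ E) * m (E₀ ⊓ E) := by
      have h5 := Nat.mul_le_mul h1 (h2.trans (Nat.mul_le_mul (Subgroup.card_le_of_le h3)
        (Subgroup.card_le_of_le h4)))
      calc m E₀ * m E = _ := by simp only [m]; ring
        _ ≤ _ := h5
        _ = _ := by simp only [m]; ring
    have h6 : m E₁ ≤ m (E₀ ⊔ E) := by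
      have hpos : 0 < m E₁ := Nat.mul_pos Nat.card_pos Nat.card_pos
      refine Nat.le_of_mul_le_mul_right ?_ hpos
      exact (Nat.mul_le_mul hE₀m hEm).trans (hsub.trans (Nat.mul_le_mul_left _ (hmax _ hAi)))
    exact le_sup_right.trans (hE₀max ⟨hAs, h6⟩ le_sup_left)
  have hN : Subgroup.normalizer (S : Set G) ≤ Subgroup.normalizer (E₀ : Set G) := by
    have hle : ∀ g ∈ Subgroup.normalizer (S : Set G),
        E₀.map (MulAut.conj g).toMonoidHom ≤ E₀ := by
      intro g hg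
      refine hgreat _ ⟨?_, ?_⟩ (hE₀m.trans ?_)
      · intro r hr
        refine ⟨g⁻¹ * r * g, hE₀.1 (by simpa using h.core_normal.conj_mem r hr g⁻¹), ?_⟩
        show g * (g⁻¹ * r * g) * g⁻¹ = r
        group
      · rintro _ ⟨x, hx, rfl⟩
        exact (Subgroup.mem_normalizer_iff.mp hg x).mp (hE₀.2 hx)
      · have hinj : Function.Injective (MulAut.conj g).toMonoidHom := (MulAut.conj g).injective
        show _ ≤ Nat.card ↥(E₀.map (MulAut.conj g).toMonoidHom) * _
        rw [← Nat.card_congr (E₀.equivMapOfInjective _ hinj).toEquiv]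
        refine Nat.mul_le_mul_left _ ?_
        rw [Nat.card_congr ((V ⊓ Subgroup.centralizer (E₀ : Set G)).equivMapOfInjective _ hinj).toEquiv]
        refine Subgroup.card_le_of_le ?_
        rintro _ ⟨v, hv, rfl⟩
        refine ⟨hVn.conj_mem v hv.1 g, Subgroup.mem_centralizer_iff.mpr ?_⟩
        rintro _ ⟨x, hx, rfl⟩
        show (MulAut.conj g) x * (MulAut.conj g) v = (MulAut.conj g) v * (MulAut.conj g) x
        rw [← map_mul, ← map_mul, Subgroup.mem_centralizer_iff.mp hv.2 x hx]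
    intro g hg
    refine Subgroup.mem_normalizer_iff.mpr fun x => ⟨fun hx => hle g hg ⟨x, hx, rfl⟩, fun hx => ?_⟩
    have := hle g⁻¹ (Subgroup.inv_mem _ hg) ⟨_, hx, rfl⟩
    rwa [show (MulAut.conj g⁻¹).toMonoidHom (g * x * g⁻¹) = x from by
      show g⁻¹ * (g * x * g⁻¹) * g⁻¹⁻¹ = x
      group] at this
  refine le_trans ((hmax E ⟨hRE, hES⟩).trans hE₀m) ?_
  rcases h.irred E₀ hE₀.1 hE₀.2 hN with rfl | rfl
  · exact hmR.le
  · have hb := h.bound_full hVn hVR hV
    have hc : Nat.card ↥E₀ = Nat.card ↥(pCore p G) * (pCore p G).relIndex E₀ := by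
      rw [← Subgroup.card_mul_index ((pCore p G).subgroupOf E₀),
        Nat.card_congr (Subgroup.subgroupOfEquivOfLe h.core_le).toEquiv]
      rfl
    show Nat.card ↥E₀ * _ ≤ _
    rw [hc, mul_assoc]
    exact Nat.mul_le_mul_left _ hb

end Ctx

end Cfsg.Agent.Lib.PushUp
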