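import Cfsg.Agent.Lib.PushUp.Bound
import Cfsg.Agent.Lib.Cores.Frattini
import Cfsg.Agent.Lib.LocalEven.Subnormal
import Cfsg.Agent.Lib.LocalEven2.CD

/-!
Centrally large subgroups in the pushing-up situation: the core is centrally large, and the
minimal centrally large subgroups inside it form a conjugation invariant family.
-/

set_option autoImplicit false
open scoped Pointwise commutatorElement
open Cfsg

namespace Cfsg.Agent.Lib.PushUp

open Lib.LocalEven2

/-- A subgroup isomorphic to a minimal centrally large subgroup is one. -/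
theorem minimal_of_mulEquiv {P : Type*} [Group P] [Finite P] {Q Q' : Subgroup P}
    (hQ : IsMinimalCentrallyLarge Q) (e : ↥Q ≃* ↥Q') : IsMinimalCentrallyLarge Q' := by
  have key : ∀ {A B : Subgroup P}, (↥A ≃* ↥B) → IsCentrallyLarge A → IsCentrallyLarge B := by
    intro A B f hA
    unfold IsCentrallyLarge at hA ⊢
    rw [← hA, Nat.card_congr f.toEquiv, Nat.card_congr (Subgroup.centerCongr f).toEquiv]
  refine ⟨key e hQ.1, fun T hT hTl => ?_⟩
  let T₀ : Subgroup P := (((T.subgroupOf Q').map e.symm.toMonoidHom)).map Q.subtype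
  let f : ↥T ≃* ↥T₀ := ((Subgroup.subgroupOfEquivOfLe hT).symm.trans
    ((T.subgroupOf Q').equivMapOfInjective _ e.symm.injective)).trans
    (Subgroup.equivMapOfInjective _ Q.subtype Q.subtype_injective)
  have h0 := hQ.2 T₀ (Subgroup.map_subtype_le _) (key f hTl)
  refine Subgroup.eq_of_le_of_card_ge hT (le_of_eq ?_)
  rw [Nat.card_congr f.toEquiv, h0, Nat.card_congr e.toEquiv]

theorem mem_omegaOne_iff {G : Type*} [Group G] {p : ℕ} {H : Subgroup G}
    (hH : H ≤ Subgroup.centralizer (H : Set G)) {x : G} :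
    x ∈ omegaOne p H ↔ x ∈ H ∧ x ^ p = 1 := by
  refine ⟨fun hx => ?_, fun hx => Subgroup.subset_closure hx⟩
  induction hx using Subgroup.closure_induction with
  | mem x hx => exact hx
  | one => exact ⟨H.one_mem, one_pow p⟩
  | mul x y _ _ hx hy =>
    exact ⟨H.mul_mem hx.1 hy.1, by
      rw [Commute.mul_pow (Subgroup.mem_centralizer_iff.mp (hH hy.1) x hx.1), hx.2, hy.2, one_mul]⟩
  | inv x _ hx => exact ⟨H.inv_mem hx.1, by rw [inv_pow, hx.2, inv_one]⟩

variable {G : Type*} [Group G] [Finite G] {p : ℕ} [Fact p.Prime] {S M : Subgroup G}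

theorem subgroupOf_centralizer_le (T : Subgroup G) (hT : T ≤ S) :
    Subgroup.centralizer ((T.subgroupOf S : Subgroup ↥S) : Set ↥S) =
      (Subgroup.centralizer (T : Set G)).subgroupOf S := by
  ext x
  rw [Subgroup.mem_subgroupOf, Subgroup.mem_centralizer_iff, Subgroup.mem_centralizer_iff]
  exact ⟨fun h t ht => congrArg Subtype.val (h ⟨t, hT ht⟩ ht),
    fun h t ht => Subtype.ext (h _ ht)⟩

namespace Ctx

variable (h : Ctx p S M)
include h

/-- `Z(O_p(G))`. -/
theorem centralizer_core_comm :
    Subgroup.centralizer (pCore p G : Set G) ≤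
      Subgroup.centralizer ((Subgroup.centralizer (pCore p G : Set G) : Subgroup G) : Set G) :=
  Subgroup.centralizer_le h.cent

/-- If the elements of order `p` in `Z(O_p(G))` are central, so is `Z(S)`. -/
theorem center_le_of_omega_central
    (hV : omegaOne p (Subgroup.centralizer (pCore p G : Set G)) ≤ Subgroup.center G) :
    S ⊓ Subgroup.centralizer (S : Set G) ≤ Subgroup.center G := by
  classical
  haveI := h.core_normal
  set W := Subgroup.centralizer (pCore p G : Set G) with hWdef
  haveI hWn : W.Normal := Subgroup.normal_centralizer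
  have hWS : W ≤ S := h.cent.trans h.core_le
  have hWp := h.isP.to_le hWS
  have key : ∀ y : G, (orderOf y).Coprime p → ∀ k : ℕ, ∀ w ∈ W, w ^ p ^ k = 1 →
      y * w = w * y := by
    intro y hy k
    induction k with
    | zero => intro w _ h1; rw [pow_zero, pow_one] at h1; rw [h1, mul_one, one_mul]
    | succ k ih =>
      intro w hw h1
      have hwp : y * w ^ p = w ^ p * y := ih _ (W.pow_mem hw p) (by rw [← pow_mul, ← pow_succ', h1])
      set c := y * w * y⁻¹ * w⁻¹
      have hcW : c ∈ W := W.mul_mem (hWn.conj_mem w hw y) (W.inv_mem hw)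
      have hcp : c ^ p = 1 := by
        rw [Commute.mul_pow (Subgroup.mem_centralizer_iff.mp
          (h.centralizer_core_comm (W.inv_mem hw)) _ (hWn.conj_mem w hw y)), conj_pow, hwp,
          mul_inv_cancel_right, inv_pow, mul_inv_cancel]
      have hcz := hV (Subgroup.subset_closure ⟨hcW, hcp⟩)
      have hn : ∀ n : ℕ, y ^ n * w * (y ^ n)⁻¹ = c ^ n * w := by
        intro n
        induction n with
        | zero => simp
        | succ n ihn =>
          have hcy : y * c ^ n = c ^ n * y :=
            Subgroup.mem_center_iff.mp ((Subgroup.center G).pow_mem hcz n) y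
          calc y ^ (n + 1) * w * (y ^ (n + 1))⁻¹ = y * (y ^ n * w * (y ^ n)⁻¹) * y⁻¹ := by
                rw [pow_succ']; group
            _ = y * c ^ n * w * y⁻¹ := by rw [ihn]; group
            _ = c ^ n * (c * w) := by rw [hcy, show c * w = y * w * y⁻¹ by simp [c]]; group
            _ = c ^ (n + 1) * w := by rw [pow_succ, mul_assoc (c ^ n) c w]
      have hco := hn (orderOf y)
      rw [pow_orderOf_eq_one, one_mul, inv_one, mul_one, right_eq_mul] at hco
      have hc1 : orderOf c = 1 := Nat.eq_one_of_dvd_coprimes hy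
        (orderOf_dvd_of_pow_eq_one hco) (orderOf_dvd_of_pow_eq_one hcp)
      rw [orderOf_eq_one_iff] at hc1
      exact mul_inv_eq_iff_eq_mul.mp (mul_inv_eq_one.mp hc1)
  set N := Subgroup.centralizer (W : Set G) with hNdef
  have htop : N ⊔ S = ⊤ := by
    rw [← Subgroup.index_eq_one]
    by_contra hne
    obtain ⟨r, hr, hrd⟩ := Nat.exists_prime_and_dvd hne
    haveI : Fact r.Prime := ⟨hr⟩
    by_cases hrp : r = p
    · subst hrp
      obtain ⟨P, hP⟩ := h.sylow
      exact P.not_dvd_index (hrd.trans (Subgroup.index_dvd_of_le (hP.trans_le le_sup_right)))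
    · obtain ⟨R⟩ : Nonempty (Sylow r G) := inferInstance
      refine R.not_dvd_index (hrd.trans (Subgroup.index_dvd_of_le fun y hy => ?_))
      refine Subgroup.mem_sup_left (Subgroup.mem_centralizer_iff.mpr fun w hw => ?_)
      obtain ⟨k, hk⟩ := hWp ⟨w, hw⟩
      obtain ⟨j, hj⟩ := IsPGroup.iff_orderOf.mp R.2 ⟨y, hy⟩
      rw [Subgroup.orderOf_mk] at hj
      refine (key y ?_ k w hw (by simpa using congrArg Subtype.val hk)).symm
      rw [hj]
      exact Nat.Coprime.pow_left j ((Nat.coprime_primes hr Fact.out).mpr hrp)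
  rw [← Subgroup.centralizer_univ, ← Subgroup.coe_top, Subgroup.le_centralizer_iff, ← htop]
  refine sup_le (Subgroup.centralizer_le ?_) (Subgroup.le_centralizer_iff.mp inf_le_right)
  exact inf_le_right.trans (Subgroup.centralizer_le h.core_le)

theorem omega_normal : (omegaOne p (Subgroup.centralizer (pCore p G : Set G))).Normal := by
  haveI := h.core_normal
  refine ⟨fun x hx g => ?_⟩
  rw [mem_omegaOne_iff h.centralizer_core_comm] at hx ⊢
  exact ⟨Subgroup.normal_centralizer.conj_mem x hx.1 g, by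
    rw [conj_pow, hx.2, mul_one, mul_inv_cancel]⟩

omit [Fact p.Prime] in
theorem omega_le : omegaOne p (Subgroup.centralizer (pCore p G : Set G)) ≤
    pCore p G ⊓ Subgroup.centralizer (pCore p G : Set G) :=
  (Subgroup.closure_le _).mpr fun _ hx => ⟨h.cent hx.1, hx.1⟩

theorem top_large (hJ : S ≤ Subgroup.centralizer (centerThompsonAOf S : Set G)) :
    IsCentrallyLarge (⊤ : Subgroup ↥S) := by
  obtain ⟨Q, hQ⟩ := CD.exists_centrallyLarge (G := ↥S)
  have hle := CD.centralizer_center_thompson_le hQ
  have htop : (⊤ : Subgroup ↥S) ≤ Q ⊔ thompsonSubgroupA ↥S := by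
    refine le_trans (fun x _ => ?_) hle
    refine Subgroup.mem_centralizer_iff.mpr fun z hz => Subtype.ext ?_
    refine Subgroup.mem_centralizer_iff.mp (hJ x.2) (z : G) ⟨Subgroup.mem_map_of_mem _ hz.1, ?_⟩
    refine Subgroup.mem_centralizer_iff.mpr ?_
    rintro _ ⟨j, hj, rfl⟩
    exact congrArg Subtype.val (Subgroup.mem_centralizer_iff.mp hz.2 j hj)
  rw [← top_le_iff.mp htop]
  exact CD.centrallyLarge_sup_thompson hQ

/-- If `Z(S)` is not central, `O_p(G)` is centrally large in `S`. -/
theorem core_large (hJ : S ≤ Subgroup.centralizer (centerThompsonAOf S : Set G))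
    (hZ : ¬ S ⊓ Subgroup.centralizer (S : Set G) ≤ Subgroup.center G) :
    IsCentrallyLarge ((pCore p G).subgroupOf S) ∧
      (Subgroup.centralizer (pCore p G : Set G)).subgroupOf S =
        Subgroup.centralizer (((pCore p G).subgroupOf S : Subgroup ↥S) : Set ↥S) := by
  haveI := h.core_normal
  set W := Subgroup.centralizer (pCore p G : Set G)
  have hVW : ¬ W ≤ Subgroup.center G := fun hc =>
    hZ (le_trans (inf_le_right.trans (Subgroup.centralizer_le h.core_le)) hc)
  have hb := h.bound Subgroup.normal_centralizer (le_inf h.cent le_rfl) hVW h.core_le le_rfl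
  have hWS : W ≤ S := h.cent.trans h.core_le
  refine ⟨(CD.isCentrallyLarge_of_le (W.subgroupOf S) (fun x hx => h.cent hx)
    (subgroupOf_centralizer_le _ h.core_le).ge ?_).1, (subgroupOf_centralizer_le _ h.core_le).symm⟩
  have htl := (CD.isCentrallyLarge_iff.mp (h.top_large hJ)).1
  rw [← htl]
  rw [Nat.card_congr (Subgroup.subgroupOfEquivOfLe h.core_le).toEquiv,
    Nat.card_congr (Subgroup.subgroupOfEquivOfLe hWS).toEquiv, Subgroup.card_top]
  refine le_trans (Nat.mul_le_mul_left _ ?_) hb
  rw [Nat.card_congr (Subgroup.equivMapOfInjective _ S.subtype S.subtype_injective).toEquiv]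
  refine Subgroup.card_le_of_le ?_
  rintro _ ⟨z, hz, rfl⟩
  have : (z : G) ∈ Subgroup.centralizer (S : Set G) := Subgroup.mem_centralizer_iff.mpr fun s hs =>
    congrArg Subtype.val (Subgroup.mem_centralizer_iff.mp hz ⟨s, hs⟩ (Subgroup.mem_top _))
  exact ⟨Subgroup.centralizer_le h.core_le this, this⟩

end Ctx

/-- The conjugate of a subgroup of `S`, cut back to `S`. -/
def cjS (g : G) (Q : Subgroup ↥S) : Subgroup ↥S :=
  ((Q.map S.subtype).map (MulAut.conj g).toMonoidHom).subgroupOf S

theorem cjS_spec (h : Ctx p S M) (g : G) {Q : Subgroup ↥S} (hQ : Q ≤ (pCore p G).subgroupOf S) :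
    cjS g Q ≤ (pCore p G).subgroupOf S ∧
      (cjS g Q).map S.subtype = (Q.map S.subtype).map (MulAut.conj g).toMonoidHom ∧
      Nonempty (↥Q ≃* ↥(cjS g Q)) := by
  have hle : (Q.map S.subtype).map (MulAut.conj g).toMonoidHom ≤ pCore p G := by
    rintro _ ⟨_, ⟨x, hx, rfl⟩, rfl⟩
    exact h.core_normal.conj_mem _ (hQ hx) g
  refine ⟨fun x hx => hle hx, Subgroup.map_subgroupOf_eq_of_le (hle.trans h.core_le), ⟨?_⟩⟩
  exact (((Q.equivMapOfInjective _ S.subtype_injective).trans
    ((Q.map S.subtype).equivMapOfInjective _ (MulAut.conj g).injective)).trans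
    (Subgroup.subgroupOfEquivOfLe (hle.trans h.core_le)).symm)

theorem normal_of_conj_le {H : Subgroup G}
    (hH : ∀ g : G, H.map (MulAut.conj g).toMonoidHom ≤ H) : H.Normal :=
  ⟨fun x hx g => hH g ⟨x, hx, rfl⟩⟩

end Cfsg.Agent.Lib.PushUp
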