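import Cfsg.Agent.Lib.PushUp.Natural
import Mathlib.GroupTheory.Transfer

/-!
`C_S(Z(J(S)))` is a Sylow subgroup of its normal closure.
-/

set_option autoImplicit false
open scoped Pointwise commutatorElement
open Cfsg

namespace Cfsg.Agent.Lib.PushUp

open Lib.LocalEven2

variable {G : Type*} [Group G] [Finite G] {p : ℕ} [Fact p.Prime] {S M : Subgroup G}

namespace Ctx

variable (h : Ctx p S M)
include h

/-- `Z(J(S)) Z(R)` is normal, a normal subgroup `N` centralizes it modulo `Z(R)`, and the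
commutators of `Z(J(S))` with `R` in a normal subgroup inside `Z(J(S))` with big centralizer. -/
theorem thompson_data (hJ : ¬ thompsonSubgroupAOf S ≤ pCore p G)
    (hZ : ¬ S ⊓ Subgroup.centralizer (S : Set G) ≤ Subgroup.center G) :
    (centerThompsonAOf S ⊔ Subgroup.centralizer (pCore p G : Set G)).Normal ∧
    (∀ s ∈ S, ∀ z ∈ centerThompsonAOf S, s * z * s⁻¹ ∈ centerThompsonAOf S) ∧
    (∀ j ∈ thompsonSubgroupAOf S, ∀ y ∈ centerThompsonAOf S, j * y = y * j) ∧
    (∀ n, ∀ z ∈ centerThompsonAOf S, n ∈ S → ⁅n, z⁆ ∈ Subgroup.centralizer (pCore p G : Set G) →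
      ⁅n, z⁆ ∈ Subgroup.center G) := by
  classical
  haveI := h.core_normal
  set R := pCore p G with hRdef
  set W := Subgroup.centralizer (R : Set G) with hWdef
  haveI hWn : W.Normal := Subgroup.normal_centralizer
  set ZJ := centerThompsonAOf S
  have hW : ¬ W ≤ Subgroup.center G := fun hc => hZ (h.center_le_centralizer_core.trans hc)
  obtain ⟨A, hA, hAR⟩ : ∃ A, IsMaxAb S A ∧ ¬ A ≤ R := by
    by_contra hc
    push Not at hc
    exact hJ (thompson_le_iff.mpr hc)
  obtain ⟨hA', -⟩ := h.offender hA hW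
  have hA'R : (A ⊓ R) ⊔ W ≤ R := sup_le inf_le_right h.cent
  set Y : Subgroup G := ⨅ B : {B : Subgroup G // IsMaxAb S B ∧ B ≤ R}, (B : Subgroup G)
  have hYle : ∀ B, IsMaxAb S B → B ≤ R → Y ≤ B := fun B hB hBR =>
    iInf_le (fun B : {B : Subgroup G // IsMaxAb S B ∧ B ≤ R} => (B : Subgroup G)) ⟨B, hB, hBR⟩
  have hWY : W ≤ Y := le_iInf fun B => h.center_core_le B.2.1 B.2.2
  have hZY : ZJ ≤ Y := le_iInf fun B => centerThompson_le B.2.1
  have hYn : ∀ g : G, ∀ y ∈ Y, g * y * g⁻¹ ∈ Y := fun g y hy => by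
    refine Subgroup.mem_iInf.mpr fun B => ?_
    obtain ⟨hB, hBR⟩ := h.isMaxAb_conj B.2.1 B.2.2 g⁻¹
    obtain ⟨b, hb, hby⟩ := Subgroup.mem_map.mp (show g⁻¹ * (g * y * g⁻¹) * g⁻¹⁻¹ ∈
      (B : Subgroup G).map (MulAut.conj g⁻¹).toMonoidHom by
        rw [show g⁻¹ * (g * y * g⁻¹) * g⁻¹⁻¹ = y by group]; exact hYle _ hB hBR hy)
    have : (MulAut.conj g⁻¹).toMonoidHom b = (MulAut.conj g⁻¹).toMonoidHom (g * y * g⁻¹) := hby
    rwa [(MulAut.conj g⁻¹).injective this] at hb
  let f := QuotientGroup.mk' W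
  haveI : (Y.map f).Normal :=
    Subgroup.Normal.map ⟨fun y hy g => hYn g y hy⟩ f (QuotientGroup.mk'_surjective W)
  set N := (Subgroup.centralizer ((Y.map f : Subgroup (G ⧸ W)) : Set (G ⧸ W))).comap f with hNdef
  haveI hN : N.Normal := Subgroup.Normal.comap Subgroup.normal_centralizer f
  obtain ⟨x, hx, hxR⟩ := SetLike.not_le_iff_exists.mp hAR
  have hxN : x ∈ N := by
    rw [hNdef, Subgroup.mem_comap, Subgroup.mem_centralizer_iff]
    rintro _ ⟨y, hy, rfl⟩
    obtain ⟨a, ha, w, hw, rfl⟩ := Subgroup.mem_sup_of_normal_right.mp (hYle _ hA' hA'R hy)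
    have hw1 : f w = 1 := (QuotientGroup.eq_one_iff w).mpr hw
    rw [map_mul, hw1, mul_one, ← map_mul, ← map_mul,
      Subgroup.mem_centralizer_iff.mp (hA.2.1 hx) a ha.1]
  have htop := h.normal_sup_eq_top hN hxN (hA.1 hx) hxR
  have hSZ : ∀ s ∈ S, ∀ z ∈ ZJ, s * z * s⁻¹ ∈ ZJ := by
    intro s hs z hz
    have hcJ : ∀ s ∈ S, ∀ j ∈ thompsonSubgroupAOf S, s * j * s⁻¹ ∈ thompsonSubgroupAOf S := by
      intro s hs
      have : thompsonSubgroupAOf S ≤ (thompsonSubgroupAOf S).comap (MulAut.conj s).toMonoidHom := by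
        refine thompson_le_iff.mpr fun B hB => ?_
        rw [← Subgroup.map_le_iff_le_comap]
        refine IsMaxAb.le_thompson ⟨?_, ?_, fun C hC hCc => ?_⟩
        · rintro _ ⟨a, ha, rfl⟩
          exact S.mul_mem (S.mul_mem hs (hB.1 ha)) (S.inv_mem hs)
        · rintro _ ⟨a, ha, rfl⟩
          refine Subgroup.mem_centralizer_iff.mpr ?_
          rintro _ ⟨b, hb, rfl⟩
          rw [← map_mul, ← map_mul, Subgroup.mem_centralizer_iff.mp (hB.2.1 ha) b hb]
        · rw [← Nat.card_congr (Subgroup.equivMapOfInjective B _ (MulAut.conj s).injective).toEquiv]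
          exact hB.2.2 C hC hCc
      exact fun j hj => this hj
    refine ⟨hcJ s hs z hz.1, Subgroup.mem_centralizer_iff.mpr fun j hj => ?_⟩
    have h1 := Subgroup.mem_centralizer_iff.mp hz.2 _ (hcJ s⁻¹ (S.inv_mem hs) j hj)
    calc j * (s * z * s⁻¹) = s * (s⁻¹ * j * s⁻¹⁻¹ * z) * s⁻¹ := by group
      _ = s * (z * (s⁻¹ * j * s⁻¹⁻¹)) * s⁻¹ := by rw [h1]
      _ = s * z * s⁻¹ * j := by group
  set Y₀ := ZJ ⊔ W
  haveI hY₀ : Y₀.Normal := normal_of_conj_le fun g => by
    have hg : g ∈ N ⊔ S := htop ▸ Subgroup.mem_top g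
    obtain ⟨n, hn, s, hs, rfl⟩ := Subgroup.mem_sup_of_normal_left.mp hg
    rw [Subgroup.map_le_iff_le_comap]
    refine sup_le (fun z hz => ?_) fun w hw => Subgroup.mem_sup_right (hWn.conj_mem w hw _)
    show n * s * z * (n * s)⁻¹ ∈ Y₀
    set z' := s * z * s⁻¹
    have hz' : z' ∈ ZJ := hSZ s hs z hz
    have hn' := Subgroup.mem_centralizer_iff.mp (Subgroup.mem_comap.mp hn) _
      (Subgroup.mem_map_of_mem f (hZY hz'))
    have hw : z'⁻¹ * (n * z' * n⁻¹) ∈ W := by
      rw [← QuotientGroup.eq_one_iff (N := W), ← QuotientGroup.mk'_apply, map_mul, map_mul,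
        map_mul, map_inv, map_inv, ← show f z' * f n = f n * f z' from hn', mul_inv_cancel_right,
        inv_mul_cancel]
    have := Subgroup.mul_mem_sup hz' hw
    rwa [mul_inv_cancel_left, show n * z' * n⁻¹ = n * s * z * (n * s)⁻¹ by
      simp only [z']; group] at this
  set D := ⁅Y₀, R⁆
  haveI hD : D.Normal := Subgroup.commutator_normal _ _
  have hDZ : D ≤ ZJ := by
    refine Subgroup.commutator_le.mpr fun y hy r hr => ?_
    obtain ⟨z, hz, w, hw, rfl⟩ := Subgroup.mem_sup_of_normal_right.mp hy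
    have hwr : w * r = r * w := (Subgroup.mem_centralizer_iff.mp hw r hr).symm
    rw [show ⁅z * w, r⁆ = z * (r * z⁻¹ * r⁻¹) from by
      calc ⁅z * w, r⁆ = z * (w * r) * w⁻¹ * z⁻¹ * r⁻¹ := by rw [commutatorElement_def]; group
        _ = z * (r * z⁻¹ * r⁻¹) := by rw [hwr]; group]
    exact ZJ.mul_mem hz (hSZ r (h.core_le hr) _ (ZJ.inv_mem hz))
  have hJZ : ∀ j ∈ thompsonSubgroupAOf S, ∀ y ∈ ZJ, j * y = y * j := fun j hj y hy =>
    Subgroup.mem_centralizer_iff.mp hy.2 j hj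
  have htopD : Subgroup.centralizer (D : Set G) ⊔ S = ⊤ :=
    h.normal_sup_eq_top Subgroup.normal_centralizer
      (Subgroup.centralizer_le hDZ (Subgroup.le_centralizer_iff.mp inf_le_right
        (hA.le_thompson hx))) (hA.1 hx) hxR
  refine ⟨hY₀, hSZ, hJZ, fun n z hz hn hc => ?_⟩
  rw [← h.thompson_sup_core hJ] at hn
  obtain ⟨j, hj, r, hr, rfl⟩ := Subgroup.mem_sup_of_normal_right.mp hn
  have hcD : ⁅j * r, z⁆ ∈ D := by
    have e : ⁅j * r, z⁆ = j * ⁅z, r⁆⁻¹ * j⁻¹ := by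
      have hzj := hJZ j hj z hz
      calc ⁅j * r, z⁆ = j * (r * z * r⁻¹ * z⁻¹) * j⁻¹ * (j * z * (z * j)⁻¹) := by
            rw [commutatorElement_def]; group
        _ = j * ⁅z, r⁆⁻¹ * j⁻¹ := by rw [hzj, commutatorElement_def]; group
    rw [e]
    exact hD.conj_mem _ (D.inv_mem
      (Subgroup.commutator_mem_commutator (Subgroup.mem_sup_left hz) hr)) j
  set c := ⁅j * r, z⁆
  have hcS : c ∈ Subgroup.centralizer (S : Set G) := by
    have hle : thompsonSubgroupAOf S ⊔ R ≤ Subgroup.centralizer ({c} : Set G) :=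
      sup_le (fun j hj => Subgroup.mem_centralizer_singleton_iff.mpr (hJZ j hj c (hDZ hcD)))
        (fun r hr => Subgroup.mem_centralizer_singleton_iff.mpr
          (Subgroup.mem_centralizer_iff.mp hc r hr))
    rw [h.thompson_sup_core hJ] at hle
    exact Subgroup.mem_centralizer_iff.mpr fun s hs =>
      Subgroup.mem_centralizer_singleton_iff.mp (hle hs)
  rw [Subgroup.mem_center_iff]
  have hle : Subgroup.centralizer (D : Set G) ⊔ S ≤ Subgroup.centralizer ({c} : Set G) :=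
    sup_le (fun a ha => Subgroup.mem_centralizer_singleton_iff.mpr
        (Subgroup.mem_centralizer_iff.mp ha c hcD).symm)
      (fun s hs => Subgroup.mem_centralizer_singleton_iff.mpr
        (Subgroup.mem_centralizer_iff.mp hcS s hs))
  rw [htopD] at hle
  exact fun g => Subgroup.mem_centralizer_singleton_iff.mp (hle (Subgroup.mem_top g))

theorem closure_inf_le (hJ : ¬ thompsonSubgroupAOf S ≤ pCore p G)
    (hZ : ¬ S ⊓ Subgroup.centralizer (S : Set G) ≤ Subgroup.center G) :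
    S ⊓ Subgroup.normalClosure
        ((S ⊓ Subgroup.centralizer (centerThompsonAOf S : Set G) : Subgroup G) : Set G) ≤
      S ⊓ Subgroup.centralizer (centerThompsonAOf S : Set G) := by
  classical
  haveI := h.core_normal
  obtain ⟨hY₀, hSZ, hJZ, hcen⟩ := h.thompson_data hJ hZ
  obtain ⟨-, -, hfix⟩ := h.natural hJ hZ
  set R := pCore p G
  set W := Subgroup.centralizer (R : Set G)
  haveI hWn : W.Normal := Subgroup.normal_centralizer
  set ZJ := centerThompsonAOf S
  set T := S ⊓ Subgroup.centralizer (ZJ : Set G)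
  haveI := hY₀
  -- elements acting trivially on `Z(J(S)) W / W`
  let f := QuotientGroup.mk' W
  haveI : ((ZJ ⊔ W).map f).Normal :=
    Subgroup.Normal.map hY₀ f (QuotientGroup.mk'_surjective W)
  set N := (Subgroup.centralizer (((ZJ ⊔ W).map f : Subgroup (G ⧸ W)) : Set (G ⧸ W))).comap f
    with hNdef
  haveI hN : N.Normal := Subgroup.Normal.comap Subgroup.normal_centralizer f
  have hTN : T ≤ N := by
    intro t ht
    rw [hNdef, Subgroup.mem_comap, Subgroup.mem_centralizer_iff]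
    rintro _ ⟨y, hy, rfl⟩
    obtain ⟨z, hz, w, hw, rfl⟩ := Subgroup.mem_sup_of_normal_right.mp hy
    have hw1 : f w = 1 := (QuotientGroup.eq_one_iff w).mpr hw
    rw [map_mul, hw1, mul_one, ← map_mul, ← map_mul, Subgroup.mem_centralizer_iff.mp ht.2 z hz]
  set H := Subgroup.normalClosure (T : Set G)
  haveI hHn : H.Normal := Subgroup.normalClosure_normal
  have hHN : H ≤ N := Subgroup.normalClosure_le_normal hTN
  have hTH : T ≤ H := Subgroup.le_normalClosure
  have hNW : ∀ n ∈ N, ∀ z ∈ ZJ, ⁅n, z⁆ ∈ W := fun n hn z hz => by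
    rw [← QuotientGroup.eq_one_iff (N := W), ← QuotientGroup.mk'_apply, map_commutatorElement,
      commutatorElement_eq_one_iff_mul_comm]
    exact (Subgroup.mem_centralizer_iff.mp (Subgroup.mem_comap.mp hn) _
      (Subgroup.mem_map_of_mem f (Subgroup.mem_sup_left hz))).symm
  -- fusion: conjugates of elements of `T` lying in `S` lie in `T`
  have hfus : ∀ t ∈ T, ∀ g : G, g * t * g⁻¹ ∈ S → g * t * g⁻¹ ∈ T := by
    intro t ht g hu
    set u := g * t * g⁻¹
    refine ⟨hu, Subgroup.mem_centralizer_iff.mpr fun y hy => ?_⟩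
    obtain ⟨z, hz, w, hw, hzw⟩ := Subgroup.mem_sup_of_normal_right.mp
      (show g⁻¹ * y * g ∈ ZJ ⊔ W by simpa using hY₀.conj_mem y (Subgroup.mem_sup_left hy) g⁻¹)
    set z' := g * z * g⁻¹
    set w' := g * w * g⁻¹
    have hy' : y = z' * w' := by
      rw [show z' * w' = g * (z * w) * g⁻¹ by simp only [z', w']; group, hzw]; group
    have huz : u * z' = z' * u := by
      calc u * z' = g * (t * z) * g⁻¹ := by simp only [u, z']; group
        _ = g * (z * t) * g⁻¹ := by rw [Subgroup.mem_centralizer_iff.mp ht.2 z hz]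
        _ = _ := by simp only [u, z']; group
    have hc := hcen u y hy hu (hNW u (hN.conj_mem t (hTN ht) g) y hy)
    have he : ⁅u, y⁆ = z' * ⁅u, w'⁆ * z'⁻¹ := by
      rw [hy']
      calc ⁅u, z' * w'⁆ = (u * z') * w' * u⁻¹ * w'⁻¹ * z'⁻¹ := by rw [commutatorElement_def]; group
        _ = z' * ⁅u, w'⁆ * z'⁻¹ := by rw [huz, commutatorElement_def]; group
    have hwW : w' ∈ W := hWn.conj_mem w hw g
    have huw : ⁅u, w'⁆ = 1 := by
      by_cases huR : u ∈ R
      · exact commutatorElement_eq_one_iff_mul_comm.mpr (Subgroup.mem_centralizer_iff.mp hwW u huR)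
      · have hc' : ⁅u, w'⁆ ∈ Subgroup.center G := by
          rw [show ⁅u, w'⁆ = z'⁻¹ * ⁅u, y⁆ * z' by rw [he]; group,
            Subgroup.mem_center_iff.mp hc z'⁻¹, inv_mul_cancel_right]
          exact hc
        have := hfix u hu huR w' hwW
          (commutatorElement_inv u w' ▸ (Subgroup.center G).inv_mem hc')
        exact commutatorElement_eq_one_iff_mul_comm.mpr
          (Subgroup.mem_centralizer_iff.mp this.2 u hu)
    rw [huw, mul_one, mul_inv_cancel] at he
    exact (commutatorElement_eq_one_iff_mul_comm.mp he).symm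
  -- the transfer
  intro n hn
  refine ⟨hn.1, Subgroup.mem_centralizer_iff.mpr fun y hy => ?_⟩
  have hmem : ∀ a : ↥((S ⊓ H).subgroupOf H), ⁅((a : ↥H) : G), y⁆ ∈ Subgroup.center G :=
    fun a => hcen _ y hy a.2.1 (hNW _ (hHN (a : ↥H).2) y hy)
  let φ : ↥((S ⊓ H).subgroupOf H) →* ↥(Subgroup.center G) :=
    MonoidHom.mk' (fun a => ⟨_, hmem a⟩) fun a b => by
      refine Subtype.ext ?_
      show ⁅((a : ↥H) : G) * ((b : ↥H) : G), y⁆ = ⁅((a : ↥H) : G), y⁆ * ⁅((b : ↥H) : G), y⁆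
      have hb := hmem b
      generalize ((a : ↥H) : G) = a' at *
      generalize ((b : ↥H) : G) = b' at *
      rw [show ⁅a' * b', y⁆ = a' * ⁅b', y⁆ * a'⁻¹ * ⁅a', y⁆ by
        simp only [commutatorElement_def]; group, Subgroup.mem_center_iff.mp hb a',
        mul_inv_cancel_right]
      exact (Subgroup.mem_center_iff.mp hb _).symm
  letI : CommGroup ↥(Subgroup.center G) :=
    { (inferInstance : Group ↥(Subgroup.center G)) with
      mul_comm := fun a b => Subtype.ext (Subgroup.mem_center_iff.mp b.2 (a : G)) }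
  let V := MonoidHom.transfer φ
  have hVT : ∀ a : ↥H, (∃ t ∈ T, ∃ g : G, g * t * g⁻¹ = (a : G)) → V a = 1 := by
    rintro a ⟨t, ht, g, hga⟩
    haveI := Fintype.ofFinite
      (Quotient (MulAction.orbitRel (Subgroup.zpowers a) (↥H ⧸ (S ⊓ H).subgroupOf H)))
    rw [MonoidHom.transfer_eq_prod_quotient_orbitRel_zpowers_quot φ a]
    refine Finset.prod_eq_one fun q _ => Subtype.ext ?_
    set k := Function.minimalPeriod (a • ·) q.out
    set b := q.out.out
    show ⁅((b⁻¹ * a ^ k * b : ↥H) : G), y⁆ = 1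
    have hb : ((b⁻¹ * a ^ k * b : ↥H) : G) = ((b : G)⁻¹ * g) * t ^ k * ((b : G)⁻¹ * g)⁻¹ := by
      simp only [Subgroup.coe_mul, Subgroup.coe_inv, Subgroup.coe_pow, ← hga, conj_pow]
      group
    have hS' : ((b⁻¹ * a ^ k * b : ↥H) : G) ∈ S :=
      (QuotientGroup.out_conj_pow_minimalPeriod_mem _ a q.out).1
    rw [hb] at hS' ⊢
    exact commutatorElement_eq_one_iff_mul_comm.mpr
      (Subgroup.mem_centralizer_iff.mp (hfus _ (T.pow_mem ht k) _ hS').2 y hy).symm
  have hV : ∀ a : ↥H, V a = 1 := by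
    suffices hsuff : H ≤ V.ker.map H.subtype by
      intro a
      obtain ⟨b, hb, hba⟩ := hsuff a.2
      rw [← Subtype.ext hba]
      exact hb
    refine (Subgroup.closure_le _).mpr fun x hx => ?_
    obtain ⟨t, ht, hc⟩ := Group.mem_conjugatesOfSet_iff.mp hx
    obtain ⟨g, hg⟩ := isConj_iff.mp hc
    have hxH : x ∈ H := Subgroup.subset_closure hx
    exact ⟨⟨x, hxH⟩, hVT ⟨x, hxH⟩ ⟨t, ht, g, hg⟩, rfl⟩
  -- elements of `R`
  have hR : ∀ a : ↥((S ⊓ H).subgroupOf H), ((a : ↥H) : G) ∈ R → φ a = 1 := by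
    intro a haR
    have hconj : ∀ b : ↥H, b⁻¹ * (a : ↥H) * b ∈ (S ⊓ H).subgroupOf H := fun b =>
      ⟨h.core_le (by simpa using h.core_normal.conj_mem _ haR (b : G)⁻¹),
        (b⁻¹ * (a : ↥H) * b).2⟩
    have hfixq : ∀ q : ↥H ⧸ (S ⊓ H).subgroupOf H, (a : ↥H) • q = q := by
      intro q
      induction q using QuotientGroup.induction_on with
      | H b =>
        rw [MulAction.Quotient.smul_mk, smul_eq_mul, QuotientGroup.eq]
        have := ((S ⊓ H).subgroupOf H).inv_mem (hconj b)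
        rwa [show (b⁻¹ * (a : ↥H) * b)⁻¹ = ((a : ↥H) * b)⁻¹ * b by group] at this
    haveI := Fintype.ofFinite (Quotient (MulAction.orbitRel (Subgroup.zpowers (a : ↥H))
      (↥H ⧸ (S ⊓ H).subgroupOf H)))
    have heq := hV (a : ↥H)
    rw [show V (a : ↥H) = _ from
      MonoidHom.transfer_eq_prod_quotient_orbitRel_zpowers_quot φ (a : ↥H)] at heq
    have hterm : ∀ q : Quotient (MulAction.orbitRel (Subgroup.zpowers (a : ↥H))
        (↥H ⧸ (S ⊓ H).subgroupOf H)),
        φ ⟨q.out.out⁻¹ * (a : ↥H) ^ Function.minimalPeriod ((a : ↥H) • ·) q.out * q.out.out,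
          QuotientGroup.out_conj_pow_minimalPeriod_mem _ (a : ↥H) q.out⟩ = φ a := by
      intro q
      refine Subtype.ext ?_
      show ⁅((q.out.out⁻¹ * (a : ↥H) ^ Function.minimalPeriod ((a : ↥H) • ·) q.out * q.out.out :
        ↥H) : G), y⁆ = ⁅((a : ↥H) : G), y⁆
      rw [Function.minimalPeriod_eq_one_iff_isFixedPt.mpr (hfixq q.out), pow_one]
      have hbN : ((q.out.out : ↥H) : G) ∈ N := hHN (q.out.out : ↥H).2
      have hc := hmem a
      simp only [Subgroup.coe_mul, Subgroup.coe_inv]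
      generalize ((q.out.out : ↥H) : G) = b at hbN
      generalize ((a : ↥H) : G) = r at haR hc
      have hw := hNW b hbN y hy
      have hrw : r * ⁅b, y⁆ = ⁅b, y⁆ * r := Subgroup.mem_centralizer_iff.mp hw r haR
      calc ⁅b⁻¹ * r * b, y⁆ = b⁻¹ * (r * ⁅b, y⁆) * y * r⁻¹ * y⁻¹ * ⁅b, y⁆⁻¹ * b := by
            simp only [commutatorElement_def]; group
        _ = b⁻¹ * (⁅b, y⁆ * ⁅r, y⁆) * ⁅b, y⁆⁻¹ * b := by
            rw [hrw]; simp only [commutatorElement_def]; group
        _ = b⁻¹ * (⁅r, y⁆ * ⁅b, y⁆) * ⁅b, y⁆⁻¹ * b := by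
            rw [Subgroup.mem_center_iff.mp hc ⁅b, y⁆]
        _ = b⁻¹ * (⁅r, y⁆ * b) := by group
        _ = ⁅r, y⁆ := by rw [← Subgroup.mem_center_iff.mp hc b, inv_mul_cancel_left]
    rw [Finset.prod_congr rfl (fun q _ => hterm q), Finset.prod_const, Finset.card_univ,
      ← Nat.card_eq_fintype_card] at heq
    have hcard : Nat.card (Quotient (MulAction.orbitRel (Subgroup.zpowers (a : ↥H))
        (↥H ⧸ (S ⊓ H).subgroupOf H))) = ((S ⊓ H).subgroupOf H).index := by
      refine (Nat.card_eq_of_bijective (Quotient.mk _) ⟨fun x y hxy => ?_,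
        Quotient.mk_surjective⟩).symm
      obtain ⟨⟨c, hc⟩, hcy⟩ := MulAction.orbitRel_apply.mp (Quotient.exact hxy)
      obtain ⟨k, rfl⟩ := Subgroup.mem_zpowers_iff.mp hc
      rw [← hcy]
      show (a : ↥H) ^ k • y = y
      have hst : (a : ↥H) ∈ MulAction.stabilizer ↥H y := hfixq y
      exact MulAction.mem_stabilizer_iff.mp ((MulAction.stabilizer ↥H y).zpow_mem hst k)
    rw [hcard] at heq
    obtain ⟨P, hP⟩ := h.sylow
    have hnd : ¬ p ∣ ((S ⊓ H).subgroupOf H).index :=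
      hP ▸ not_dvd_relIndex_inf_subnormal P hHn.isSubnormal
    have haP : IsPGroup p ↥((S ⊓ H).subgroupOf H) :=
      (h.isP.to_le inf_le_left).of_equiv (Subgroup.subgroupOfEquivOfLe inf_le_right).symm
    obtain ⟨m, hm⟩ := haP a
    have h1 : orderOf (φ a) ∣ p ^ m :=
      orderOf_dvd_of_pow_eq_one (by rw [← map_pow, hm, map_one])
    have h2 : orderOf (φ a) ∣ ((S ⊓ H).subgroupOf H).index := orderOf_dvd_of_pow_eq_one heq
    refine orderOf_eq_one_iff.mp (Nat.eq_one_of_dvd_coprimes ?_ h1 h2)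
    exact Nat.Coprime.pow_left m ((Fact.out : p.Prime).coprime_iff_not_dvd.mpr hnd)
  have hnS : n ∈ thompsonSubgroupAOf S ⊔ R := by rw [h.thompson_sup_core hJ]; exact hn.1
  obtain ⟨j, hj, r, hr, rfl⟩ := Subgroup.mem_sup_of_normal_right.mp hnS
  have hjT : j ∈ T := ⟨Subgroup.map_subtype_le _ hj,
    Subgroup.mem_centralizer_iff.mpr fun z hz => (hJZ j hj z hz).symm⟩
  have hrH : r ∈ H := by
    have := H.mul_mem (H.inv_mem (hTH hjT)) hn.2
    rwa [inv_mul_cancel_left] at this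
  have h1 := congrArg Subtype.val
    (hR (⟨⟨r, hrH⟩, h.core_le hr, hrH⟩ : ↥((S ⊓ H).subgroupOf H)) hr)
  have h2 : r * y = y * r := commutatorElement_eq_one_iff_mul_comm.mp h1
  rw [mul_assoc, h2, ← mul_assoc, ← mul_assoc, hJZ j hj y hy]

end Ctx

end Cfsg.Agent.Lib.PushUp
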