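import Cfsg.Agent.Lib.PushUp.CL

/-!
Minimal centrally large subgroups with a large `Ω₁` of the center: their Frattini subgroups are
already reached inside `O_p(G)`.
-/

set_option autoImplicit false
open scoped Pointwise commutatorElement
open Cfsg

namespace Cfsg.Agent.Lib.PushUp

open Lib.LocalEven2

variable {G : Type*} [Group G] [Finite G] {p : ℕ} [Fact p.Prime] {S M : Subgroup G}

/-- Membership in the family that defines `S_Φ`. -/
def Good (p : ℕ) (S : Subgroup G) (Q : Subgroup ↥S) : Prop :=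
  IsMinimalCentrallyLarge Q ∧
    Nat.card ↥(omegaOneCenter p Q) = maxOmegaCenterOfMinimalCL p ↥S

omit [Fact p.Prime] in
theorem card_omega_le {Q : Subgroup ↥S} (hQ : IsMinimalCentrallyLarge Q) :
    Nat.card ↥(omegaOneCenter p Q) ≤ maxOmegaCenterOfMinimalCL p ↥S := by
  refine le_csSup (Set.Finite.bddAbove ?_) ⟨Q, hQ, rfl⟩
  exact (Set.finite_range fun Q : Subgroup ↥S => Nat.card ↥(omegaOneCenter p Q)).subset
    fun k ⟨Q, _, hk⟩ => ⟨Q, hk⟩

omit [Fact p.Prime] in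
theorem exists_good : ∃ Q : Subgroup ↥S, Good p S Q := by
  obtain ⟨Q₀, hQ₀⟩ := CD.exists_centrallyLarge (G := ↥S)
  obtain ⟨Q₁, -, hQ₁⟩ := CD.exists_minimal_le hQ₀
  obtain ⟨Q, hQ, hk⟩ : maxOmegaCenterOfMinimalCL p ↥S ∈
      {k : ℕ | ∃ Q : Subgroup ↥S, IsMinimalCentrallyLarge Q ∧
        Nat.card ↥(omegaOneCenter p Q) = k} := by
    refine Nat.sSup_mem ⟨_, Q₁, hQ₁, rfl⟩ (Set.Finite.bddAbove ?_)
    exact (Set.finite_range fun Q : Subgroup ↥S => Nat.card ↥(omegaOneCenter p Q)).subset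
      fun k ⟨Q, _, hk⟩ => ⟨Q, hk⟩
  exact ⟨Q, hQ, hk⟩

theorem omegaOneCenter_eq {Q : Subgroup ↥S} (hQ : IsMinimalCentrallyLarge Q) :
    omegaOneCenter p Q = omegaOne p (Subgroup.centralizer (Q : Set ↥S)) ∧
      Subgroup.centralizer (Q : Set ↥S) ≤
        Subgroup.centralizer ((Subgroup.centralizer (Q : Set ↥S) : Subgroup ↥S) : Set ↥S) := by
  obtain ⟨-, hc⟩ := CD.isCentrallyLarge_iff.mp hQ.1
  exact ⟨by rw [omegaOneCenter, inf_eq_right.mpr hc], Subgroup.centralizer_le hc⟩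

theorem good_conj (h : Ctx p S M) (g : G) {Q : Subgroup ↥S} (hQ : Good p S Q)
    (hQR : Q ≤ (pCore p G).subgroupOf S) :
    Good p S (cjS g Q) ∧ cjS g Q ≤ (pCore p G).subgroupOf S ∧
      ((frattini ↥(cjS g Q)).map (cjS g Q).subtype).map S.subtype =
        (((frattini ↥Q).map Q.subtype).map S.subtype).map (MulAut.conj g).toMonoidHom := by
  classical
  obtain ⟨hle, hmap, -⟩ := cjS_spec h g hQR
  have hmem : ∀ x : ↥Q, ∃ y : ↥(cjS g Q), ((y : ↥S) : G) = g * ((x : ↥S) : G) * g⁻¹ := by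
    intro x
    have : g * ((x : ↥S) : G) * g⁻¹ ∈ (cjS g Q).map S.subtype := by
      rw [hmap]; exact ⟨_, ⟨x, x.2, rfl⟩, rfl⟩
    obtain ⟨y, hy, hyx⟩ := this
    exact ⟨⟨y, hy⟩, hyx⟩
  choose f hf using hmem
  have hfi : Function.Injective f := fun a b hab => by
    have := congrArg (fun y : ↥(cjS g Q) => ((y : ↥S) : G)) hab
    rw [show ((f a : ↥S) : G) = g * ((a : ↥S) : G) * g⁻¹ from hf a,
      show ((f b : ↥S) : G) = g * ((b : ↥S) : G) * g⁻¹ from hf b] at this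
    exact Subtype.ext (Subtype.ext (mul_left_cancel (mul_right_cancel this)))
  have hfs : Function.Surjective f := fun y => by
    obtain ⟨_, ⟨x, hx, rfl⟩, hxy⟩ :=
      (hmap ▸ Subgroup.mem_map_of_mem S.subtype y.2 :
        ((y : ↥S) : G) ∈ (Q.map S.subtype).map (MulAut.conj g).toMonoidHom)
    refine ⟨⟨x, hx⟩, Subtype.ext (Subtype.ext ?_)⟩
    rw [hf ⟨x, hx⟩]
    exact hxy
  let e : ↥Q ≃* ↥(cjS g Q) :=
    { Equiv.ofBijective f ⟨hfi, hfs⟩ with
      map_mul' := fun a b => Subtype.ext (Subtype.ext (by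
        show ((f (a * b) : ↥S) : G) = ((f a : ↥S) : G) * ((f b : ↥S) : G)
        rw [hf, hf, hf]
        simp only [Subgroup.coe_mul]
        group)) }
  have hmin := minimal_of_mulEquiv hQ.1 e
  have hcard : Nat.card ↥(omegaOneCenter p Q) ≤ Nat.card ↥(omegaOneCenter p (cjS g Q)) := by
    obtain ⟨h1, h1c⟩ := omegaOneCenter_eq (p := p) hQ.1
    obtain ⟨h2, h2c⟩ := omegaOneCenter_eq (p := p) hmin
    obtain ⟨-, hQc⟩ := CD.isCentrallyLarge_iff.mp hQ.1.1
    rw [h1, h2]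
    have hin : ∀ x : ↥(omegaOne p (Subgroup.centralizer (Q : Set ↥S))), (x : ↥S) ∈ Q := fun x =>
      hQc ((mem_omegaOne_iff h1c).mp x.2).1
    have hto : ∀ x : ↥(omegaOne p (Subgroup.centralizer (Q : Set ↥S))),
        (e ⟨x, hin x⟩ : ↥S) ∈ omegaOne p (Subgroup.centralizer (cjS g Q : Set ↥S)) := by
      intro x
      obtain ⟨hxc, hxp⟩ := (mem_omegaOne_iff h1c).mp x.2
      refine (mem_omegaOne_iff h2c).mpr ⟨Subgroup.mem_centralizer_iff.mpr fun y hy => ?_, ?_⟩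
      · obtain ⟨z, hz⟩ := e.surjective ⟨y, hy⟩
        have : z * ⟨x, hin x⟩ = ⟨x, hin x⟩ * z :=
          Subtype.ext (Subgroup.mem_centralizer_iff.mp hxc z z.2)
        have := congrArg (fun w => (e w : ↥S)) this
        simp only [map_mul, hz, Subgroup.coe_mul] at this
        exact this
      · rw [← Subgroup.coe_pow, ← map_pow,
          show (⟨x, hin x⟩ : ↥Q) ^ p = 1 from Subtype.ext hxp, map_one, Subgroup.coe_one]
    refine Nat.card_le_card_of_injective (fun x => ⟨_, hto x⟩) fun a b hab => ?_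
    have := e.injective (Subtype.ext (Subtype.mk.inj hab))
    exact Subtype.ext (congrArg (fun y : ↥Q => (y : ↥S)) this)
  refine ⟨⟨hmin, le_antisymm (card_omega_le hmin) (hQ.2 ▸ hcard)⟩, hle, ?_⟩
  rw [← Lib.Cores.map_frattini_equiv e]
  simp only [Subgroup.map_map]
  refine congrArg (fun φ => (frattini ↥Q).map φ) (MonoidHom.ext fun x => ?_)
  exact hf x

/-- Every good subgroup's Frattini subgroup lies in that of a good subgroup of `O_p(G)`. -/
theorem exists_good_le (h : Ctx p S M)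
    (hJ : S ≤ Subgroup.centralizer (centerThompsonAOf S : Set G))
    (hZ : ¬ S ⊓ Subgroup.centralizer (S : Set G) ≤ Subgroup.center G)
    {Q : Subgroup ↥S} (hQ : Good p S Q) :
    ∃ R₁ : Subgroup ↥S, Good p S R₁ ∧ R₁ ≤ (pCore p G).subgroupOf S ∧
      (frattini ↥Q).map Q.subtype ≤ (frattini ↥R₁).map R₁.subtype := by
  classical
  haveI := h.core_normal
  obtain ⟨hRl, hW⟩ := h.core_large hJ hZ
  obtain ⟨R', hR'⟩ : ∃ R', R' = (pCore p G).subgroupOf S := ⟨_, rfl⟩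
  rw [← hR'] at hRl hW ⊢
  haveI : R'.Normal := hR' ▸ Subgroup.normal_subgroupOf
  obtain ⟨hRl, hRc⟩ := CD.isCentrallyLarge_iff.mp hRl
  obtain ⟨hQl, hQc⟩ := CD.isCentrallyLarge_iff.mp hQ.1.1
  obtain ⟨hWl, hWW⟩ := CD.large_centralizer hRl
  obtain ⟨W', hW'⟩ : ∃ W', W' = Subgroup.centralizer (R' : Set ↥S) := ⟨_, rfl⟩
  rw [← hW'] at hW hWl hWW hRc
  haveI : W'.Normal := hW' ▸ Subgroup.normal_centralizer
  set X := Q ⊓ R'
  have hXl := (CD.large_sup_inf hQl hRl).2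
  set D := X ⊔ W'
  have hDl := (CD.large_sup_inf hXl hWl).1
  have hDR : D ≤ R' := sup_le inf_le_right hRc
  have hCD : Subgroup.centralizer (D : Set ↥S) ≤ D := by
    intro x hx
    rw [CD.centralizer_sup, hWW, CD.large_centralizer_inf hQl hRl, ← hW'] at hx
    obtain ⟨c, hc, w, hw, rfl⟩ := Subgroup.mem_sup_of_normal_right.mp hx.1
    refine Subgroup.mul_mem _ (Subgroup.mem_sup_left ⟨hQc hc, ?_⟩) (Subgroup.mem_sup_right hw)
    have := R'.mul_mem hx.2 (R'.inv_mem (hRc hw))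
    rwa [mul_inv_cancel_right] at this
  obtain ⟨R₁, hR₁D, hR₁⟩ := CD.exists_minimal_le (CD.isCentrallyLarge_iff.mpr ⟨hDl, hCD⟩)
  obtain ⟨-, hR₁c⟩ := CD.isCentrallyLarge_iff.mp hR₁.1
  have hR₁R := hR₁D.trans hDR
  have hCDR₁ : Subgroup.centralizer (D : Set ↥S) ≤ Subgroup.centralizer (R₁ : Set ↥S) :=
    Subgroup.centralizer_le hR₁D
  have hZc : ∀ c ∈ Subgroup.centralizer (Q : Set ↥S), c ∈ R' →
      c ∈ Subgroup.centralizer (D : Set ↥S) := by
    intro c hc hcR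
    rw [CD.centralizer_sup]
    exact ⟨Subgroup.centralizer_le inf_le_left hc, hWW.ge hcR⟩
  have hWD : W' ≤ Subgroup.centralizer (D : Set ↥S) := by
    rw [CD.centralizer_sup]
    exact le_inf (hW'.le.trans (Subgroup.centralizer_le inf_le_right)) (hRc.trans hWW.ge)
  have hXR₁ : X ≤ R₁ := by
    intro x hx
    have hx1 : x ∈ (((Q ⊓ R₁) ⊔ Subgroup.centralizer (Q : Set ↥S) : Subgroup ↥S) : Set ↥S) := by
      rw [CD.minimal_eq_inf_sup hQ.1 hR₁]; exact hx.1
    rw [Subgroup.coe_mul_of_left_le_normalizer_right _ _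
        ((Subgroup.le_centralizer_iff.mp (Subgroup.centralizer_le inf_le_left)).trans
          (Subgroup.centralizer_le_normalizer _))] at hx1
    obtain ⟨a, ha, c, hc, rfl⟩ := hx1
    refine R₁.mul_mem ha.2 (hR₁c (hCDR₁ (hZc c hc ?_)))
    have := R'.mul_mem (R'.inv_mem (hR₁R ha.2)) hx.2
    rwa [inv_mul_cancel_left] at this
  -- the counting
  obtain ⟨hZq, hZqc⟩ := omegaOneCenter_eq (p := p) hQ.1
  obtain ⟨hZR, hZRc⟩ := omegaOneCenter_eq (p := p) hR₁
  set Zq := omegaOne p (Subgroup.centralizer (Q : Set ↥S))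
  set ZR := omegaOne p (Subgroup.centralizer (R₁ : Set ↥S))
  set V := omegaOne p (Subgroup.centralizer (pCore p G : Set G))
  have hVn := h.omega_normal
  have hVnc : ¬ V ≤ Subgroup.center G := fun hc => hZ (h.center_le_of_omega_central hc)
  have hVS : V ≤ S := h.omega_le.trans (inf_le_left.trans h.core_le)
  set U := V.subgroupOf S
  have hUW : U ≤ W' := by
    intro u hu
    rw [← hW]
    exact (h.omega_le hu).2
  have hUZ : (Zq ⊓ R') ⊔ U ≤ ZR := by
    refine sup_le (fun z hz => ?_) (fun u hu => ?_)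
    · obtain ⟨hzc, hzp⟩ := (mem_omegaOne_iff hZqc).mp hz.1
      exact (mem_omegaOne_iff hZRc).mpr ⟨hCDR₁ (hZc z hzc hz.2), hzp⟩
    · obtain ⟨-, hup⟩ := (mem_omegaOne_iff h.centralizer_core_comm).mp hu
      exact (mem_omegaOne_iff hZRc).mpr ⟨hCDR₁ (hWD (hUW hu)), Subtype.ext hup⟩
  have i1 := CD.card_mul_le_sup (Zq ⊓ R') U
  have i1' := Subgroup.card_le_of_le hUZ
  have i2 : Nat.card ↥((Zq ⊓ R') ⊓ U) ≤
      Nat.card ↥(U ⊓ Subgroup.centralizer ((Q ⊔ R' : Subgroup ↥S) : Set ↥S)) := by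
    refine Subgroup.card_le_of_le (le_inf inf_le_right ?_)
    rw [CD.centralizer_sup]
    exact le_inf (inf_le_left.trans (inf_le_left.trans fun z hz =>
      ((mem_omegaOne_iff hZqc).mp hz).1)) (inf_le_right.trans (hUW.trans hW'.le))
  have i3 := h.bound hVn h.omega_le hVnc (E := (Q ⊔ R').map S.subtype)
    (by
      refine le_trans ?_ (Subgroup.map_mono le_sup_right)
      rw [hR', Subgroup.map_subgroupOf_eq_of_le h.core_le])
    (Subgroup.map_subtype_le _)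
  rw [← Nat.card_congr (Subgroup.equivMapOfInjective _ S.subtype S.subtype_injective).toEquiv,
    ← Nat.card_congr (Subgroup.subgroupOfEquivOfLe h.core_le).toEquiv,
    ← Nat.card_congr (Subgroup.subgroupOfEquivOfLe hVS).toEquiv, ← hR'] at i3
  have i4 : Nat.card ↥(U ⊓ Subgroup.centralizer ((Q ⊔ R' : Subgroup ↥S) : Set ↥S)) ≤
      Nat.card ↥(V ⊓ Subgroup.centralizer (((Q ⊔ R').map S.subtype : Subgroup G) : Set G)) := by
    rw [Nat.card_congr (Subgroup.equivMapOfInjective _ S.subtype S.subtype_injective).toEquiv]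
    refine Subgroup.card_le_of_le ?_
    rintro _ ⟨u, hu, rfl⟩
    refine ⟨hu.1, Subgroup.mem_centralizer_iff.mpr ?_⟩
    rintro _ ⟨y, hy, rfl⟩
    exact congrArg Subtype.val (Subgroup.mem_centralizer_iff.mp hu.2 y hy)
  have i5 := CD.card_mul_le_sup Zq R'
  have hZqQ : Zq ≤ Q := fun z hz => hQc ((mem_omegaOne_iff hZqc).mp hz).1
  have i6 := Subgroup.card_le_of_le (sup_le_sup_right hZqQ R')
  have i7 : Nat.card ↥ZR ≤ Nat.card ↥Zq := by
    rw [← hZR, ← hZq, hQ.2]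
    exact card_omega_le hR₁
  set a := Nat.card ↥(Zq ⊓ R')
  set z := Nat.card ↥Zq
  set r := Nat.card ↥R'
  set u := Nat.card ↥U
  set t := Nat.card ↥((Zq ⊓ R') ⊓ U)
  set c := Nat.card ↥(V ⊓ Subgroup.centralizer (((Q ⊔ R').map S.subtype : Subgroup G) : Set G))
  set e := Nat.card ↥(Q ⊔ R')
  set e1 := Nat.card ↥(Zq ⊔ R')
  have hc0 : 0 < c := Nat.card_pos
  have htc : t ≤ c := i2.trans i4
  have j1 : a * u ≤ Nat.card ↥ZR * c :=
    i1.trans (Nat.mul_le_mul i1' htc)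
  have j2 : z * r * c ≤ e1 * a * c := Nat.mul_le_mul_right _ i5
  have j3 : e1 * a * c ≤ e * a * c := Nat.mul_le_mul_right _ (Nat.mul_le_mul_right _ i6)
  have j4 : e * a * c ≤ r * (a * u) := by
    calc e * a * c = a * (e * c) := by ring
      _ ≤ a * (r * u) := Nat.mul_le_mul_left _ i3
      _ = r * (a * u) := by ring
  have j5 : r * (a * u) ≤ r * (Nat.card ↥ZR * c) := Nat.mul_le_mul_left _ j1
  have j6 : r * (Nat.card ↥ZR * c) ≤ z * r * c := by
    calc r * (Nat.card ↥ZR * c) ≤ r * (z * c) := Nat.mul_le_mul_left _ (Nat.mul_le_mul_right _ i7)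
      _ = z * r * c := by ring
  have hzz : Nat.card ↥ZR = z := by
    refine le_antisymm i7 ?_
    have : z * r * c ≤ Nat.card ↥ZR * r * c := by
      calc z * r * c ≤ r * (Nat.card ↥ZR * c) := j2.trans (j3.trans (j4.trans j5))
        _ = Nat.card ↥ZR * r * c := by ring
    exact Nat.le_of_mul_le_mul_right (Nat.le_of_mul_le_mul_right this hc0) Nat.card_pos
  have hee : e ≤ e1 := by
    have : e * a * c ≤ e1 * a * c := j4.trans (j5.trans (j6.trans j2))
    exact Nat.le_of_mul_le_mul_right (Nat.le_of_mul_le_mul_right this hc0) Nat.card_pos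
  have hsup : Zq ⊔ R' = Q ⊔ R' :=
    Subgroup.eq_of_le_of_card_ge (sup_le_sup_right hZqQ R') hee
  have hR₁good : Good p S R₁ := ⟨hR₁, by rw [hZR, hzz, ← hQ.2, hZq]⟩
  refine ⟨R₁, hR₁good, hR₁R, ?_⟩
  -- `Q = (Q ∩ R) Ω₁(Z(Q))`
  have hdec : ∀ q : ↥Q, ∃ x ∈ X, ∃ z ∈ Subgroup.centralizer (Q : Set ↥S),
      z ^ p = 1 ∧ (q : ↥S) = x * z := by
    intro q
    have hq : (q : ↥S) ∈ Zq ⊔ R' := hsup ▸ Subgroup.mem_sup_left q.2
    obtain ⟨z, hz, x, hx, hzx⟩ := Subgroup.mem_sup_of_normal_right.mp hq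
    obtain ⟨hzc, hzp⟩ := (mem_omegaOne_iff hZqc).mp hz
    have hxQ : x ∈ Q := by
      have := Q.mul_mem (Q.inv_mem (hQc hzc)) q.2
      rwa [← hzx, inv_mul_cancel_left] at this
    exact ⟨x, ⟨hxQ, hx⟩, z, hzc, hzp,
      hzx ▸ (Subgroup.mem_centralizer_iff.mp hzc x hxQ).symm⟩
  have hR₁p : IsPGroup p ↥R₁ := h.isP.to_subgroup R₁
  haveI := hR₁p.isNilpotent
  have hQp : IsPGroup p ↥Q := h.isP.to_subgroup Q
  set N := ((frattini ↥R₁).map R₁.subtype).comap Q.subtype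
  have hle : frattini ↥Q ≤ N := by
    refine Lib.LocalEven.frattini_le_of_quotient_elementary (p := p) ?_ ?_
    · rw [commutator_eq_closure, Subgroup.closure_le]
      rintro _ ⟨q, q', rfl⟩
      obtain ⟨x, hx, z, hz, -, hq⟩ := hdec q
      obtain ⟨x', hx', z', hz', -, hq'⟩ := hdec q'
      have hzq : z * (x' * z') = (x' * z') * z :=
        (Subgroup.mem_centralizer_iff.mp hz _ (hq' ▸ q'.2)).symm
      have hzx : z' * x⁻¹ = x⁻¹ * z' :=
        (Subgroup.mem_centralizer_iff.mp hz' _ (Q.inv_mem hx.1)).symm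
      refine ⟨⁅⟨x, hXR₁ hx⟩, ⟨x', hXR₁ hx'⟩⁆,
        Lib.Cores.commutator_le_frattini (Subgroup.commutator_mem_commutator (Subgroup.mem_top _)
          (Subgroup.mem_top _)), ?_⟩
      show ⁅x, x'⁆ = ((⁅q, q'⁆ : ↥Q) : ↥S)
      rw [show ((⁅q, q'⁆ : ↥Q) : ↥S) = ⁅(q : ↥S), (q' : ↥S)⁆ from rfl, hq, hq']
      symm
      calc ⁅x * z, x' * z'⁆ = x * (z * (x' * z')) * z⁻¹ * x⁻¹ * (z'⁻¹ * x'⁻¹) := by
            rw [commutatorElement_def]; group
        _ = x * x' * (z' * x⁻¹) * z'⁻¹ * x'⁻¹ := by rw [hzq]; group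
        _ = ⁅x, x'⁆ := by rw [hzx, commutatorElement_def]; group
    · intro q
      obtain ⟨x, hx, z, hz, hzp, hq⟩ := hdec q
      refine ⟨⟨x, hXR₁ hx⟩ ^ p, Lib.Cores.pow_mem_frattini hR₁p _, ?_⟩
      show x ^ p = ((q ^ p : ↥Q) : ↥S)
      rw [Subgroup.coe_pow, hq, Commute.mul_pow (Subgroup.mem_centralizer_iff.mp hz x hx.1), hzp,
        mul_one]
  exact Subgroup.map_le_iff_le_comap.mpr hle

/-- Normality of `S_Φ` when `Z(S)` is not central. -/
theorem frattiniJoin_normal (h : Ctx p S M)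
    (hJ : S ≤ Subgroup.centralizer (centerThompsonAOf S : Set G))
    (hZ : ¬ S ⊓ Subgroup.centralizer (S : Set G) ≤ Subgroup.center G) :
    ((frattiniOfMinimalCLJoin p ↥S).map S.subtype).Normal := by
  refine normal_of_conj_le fun g => ?_
  rw [frattiniOfMinimalCLJoin, Subgroup.map_iSup, Subgroup.map_iSup]
  refine iSup_le fun Q => ?_
  obtain ⟨R₁, hR₁, hR₁R, hle⟩ := exists_good_le h hJ hZ Q.2
  obtain ⟨hg, -, hmap⟩ := good_conj h g hR₁ hR₁R
  refine (Subgroup.map_mono (Subgroup.map_mono hle)).trans ?_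
  rw [← hmap]
  exact le_iSup (fun X : {Q : Subgroup ↥S // IsMinimalCentrallyLarge Q ∧
    Nat.card ↥(omegaOneCenter p Q) = maxOmegaCenterOfMinimalCL p ↥S} =>
      ((frattini ↥(X : Subgroup ↥S)).map (X : Subgroup ↥S).subtype).map S.subtype) ⟨cjS g R₁, hg⟩

end Cfsg.Agent.Lib.PushUp
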