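import Cfsg.Agent.Lib.PushUp.Thompson
import Cfsg.Agent.Lib.PLocal.Replacement
import Mathlib.GroupTheory.Nilpotent

/-!
The module `Z(O_p(G))` of a pushing-up situation with an offender: it is natural modulo the
center of `G`, i.e. `S` acts quadratically, two conjugates of `Z(S)` generate it and no element
outside the core centralizes more than `Z(S)`.
-/

set_option autoImplicit false
open scoped Pointwise commutatorElement
open Cfsg

namespace Cfsg.Agent.Lib.PushUp

open Lib.LocalEven2 Lib.PLocal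

variable {G : Type*} [Group G] [Finite G] {p : ℕ} [Fact p.Prime] {S M : Subgroup G}

omit [Finite G] in
/-- In a nilpotent subgroup, `X ≤ [X, S]` forces `X = 1`. -/
theorem eq_bot_of_le_commutator {X S : Subgroup G} [Group.IsNilpotent ↥S] (hX : X ≤ S)
    (h : X ≤ ⁅X, S⁆) : X = ⊥ := by
  obtain ⟨n, hn⟩ := Subgroup.nilpotent_iff_lowerCentralSeries.mp (‹Group.IsNilpotent ↥S›)
  set X' := X.subgroupOf S
  have hX' : X' ≤ ⁅X', (⊤ : Subgroup ↥S)⁆ := by
    rw [← Subgroup.map_le_map_iff_of_injective S.subtype_injective, Subgroup.map_commutator,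
      Subgroup.map_subgroupOf_eq_of_le hX, ← MonoidHom.range_eq_map, Subgroup.range_subtype]
    exact h
  have key : ∀ k, X' ≤ Subgroup.lowerCentralSeries (⊤ : Subgroup ↥S) k := by
    intro k
    induction k with
    | zero => rw [Subgroup.lowerCentralSeries_zero]; exact le_top
    | succ k ih => exact hX'.trans (Subgroup.commutator_mono ih le_rfl)
  have := (key n).trans hn.le
  rw [le_bot_iff, Subgroup.subgroupOf_eq_bot, disjoint_iff, inf_eq_left.mpr hX] at this
  exact this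

namespace Ctx

variable (h : Ctx p S M)
include h

theorem natural (hJ : ¬ thompsonSubgroupAOf S ≤ pCore p G)
    (hZ : ¬ S ⊓ Subgroup.centralizer (S : Set G) ≤ Subgroup.center G) :
    (∀ w ∈ Subgroup.centralizer (pCore p G : Set G), ∀ s ∈ S,
      ⁅w, s⁆ ∈ S ⊓ Subgroup.centralizer (S : Set G)) ∧
    (∀ g : G, g ∉ M → ∀ w ∈ Subgroup.centralizer (pCore p G : Set G),
      ∃ z ∈ S ⊓ Subgroup.centralizer (S : Set G), ∃ z' ∈ S ⊓ Subgroup.centralizer (S : Set G),
        w = z * (g * z' * g⁻¹)) ∧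
    (∀ x ∈ S, x ∉ pCore p G → ∀ w ∈ Subgroup.centralizer (pCore p G : Set G),
      ⁅w, x⁆ ∈ Subgroup.center G → w ∈ S ⊓ Subgroup.centralizer (S : Set G)) := by
  classical
  haveI := h.core_normal
  haveI : Group.IsNilpotent ↥S := h.isP.isNilpotent
  set R := pCore p G with hRdef
  set W := Subgroup.centralizer (R : Set G) with hWdef
  haveI hWn : W.Normal := Subgroup.normal_centralizer
  set Z := S ⊓ Subgroup.centralizer (S : Set G) with hZdef
  have hW : ¬ W ≤ Subgroup.center G := fun hc => hZ (h.center_le_centralizer_core.trans hc)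
  have hWS : W ≤ S := h.cent.trans h.core_le
  have hab : ∀ a ∈ W, ∀ b ∈ W, a * b = b * a := fun a ha b hb =>
    Subgroup.mem_centralizer_iff.mp (h.centralizer_core_comm hb) a ha
  have hWC : ∀ B : Subgroup G, W ⊓ Subgroup.centralizer (B : Set G) =
      W ⊓ Subgroup.centralizer ((B ⊔ R : Subgroup G) : Set G) := fun B => by
    rw [CD.centralizer_sup, inf_comm (Subgroup.centralizer (B : Set G)), ← inf_assoc, ← hWdef,
      inf_idem]
  set rw' := Nat.card ↥R * Nat.card ↥W
  have hbd : ∀ B ≤ S, fOn W B ≤ rw' := fun B hB => by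
    rw [fOn, hWC]
    exact (Nat.mul_le_mul_right _ (Subgroup.card_le_of_le le_sup_left)).trans
      (h.bound Subgroup.normal_centralizer (le_inf h.cent le_rfl) hW le_sup_right
        (sup_le hB h.core_le))
  let 𝓔 : Set (Subgroup G) := {E | R ≤ E ∧ E ≤ S ∧ rw' ≤ fOn W E}
  have hsup : ∀ E ∈ 𝓔, ∀ E' ∈ 𝓔, E ⊔ E' ∈ 𝓔 ∧ E ⊓ E' ∈ 𝓔 ∧
      Nat.card ↥W ≤ Nat.card ↥(W ⊓ Subgroup.centralizer (E : Set G) ⊔
        W ⊓ Subgroup.centralizer (E' : Set G)) * (Nat.card ↥(E ⊓ E') / Nat.card ↥R) := by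
    intro E hE E' hE'
    have h1 := CD.card_mul_le_sup E E'
    have h2 := CD.card_mul_le_sup (W ⊓ Subgroup.centralizer (E : Set G))
      (W ⊓ Subgroup.centralizer (E' : Set G))
    have h3 : W ⊓ Subgroup.centralizer (E : Set G) ⊔ W ⊓ Subgroup.centralizer (E' : Set G) ≤
        W ⊓ Subgroup.centralizer ((E ⊓ E' : Subgroup G) : Set G) :=
      sup_le (inf_le_inf_left _ (Subgroup.centralizer_le inf_le_left))
        (inf_le_inf_left _ (Subgroup.centralizer_le inf_le_right))
    have h4 : (W ⊓ Subgroup.centralizer (E : Set G)) ⊓ (W ⊓ Subgroup.centralizer (E' : Set G)) =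
        W ⊓ Subgroup.centralizer ((E ⊔ E' : Subgroup G) : Set G) := by
      rw [CD.centralizer_sup, ← inf_inf_distrib_left]
    rw [h4] at h2
    set D := W ⊓ Subgroup.centralizer (E : Set G) ⊔ W ⊓ Subgroup.centralizer (E' : Set G)
    have hs : rw' * rw' ≤ fOn W (E ⊔ E') * (Nat.card ↥(E ⊓ E') * Nat.card ↥D) := by
      calc rw' * rw' ≤ fOn W E * fOn W E' := Nat.mul_le_mul hE.2.2 hE'.2.2
        _ = (Nat.card ↥E * Nat.card ↥E') * (Nat.card ↥(W ⊓ Subgroup.centralizer (E : Set G)) *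
              Nat.card ↥(W ⊓ Subgroup.centralizer (E' : Set G))) := by rw [fOn, fOn]; ring
        _ ≤ _ := Nat.mul_le_mul h1 h2
        _ = _ := by rw [fOn]; ring
    have hES : E ⊔ E' ≤ S := sup_le hE.2.1 hE'.2.1
    have hpos : 0 < rw' := Nat.mul_pos Nat.card_pos Nat.card_pos
    have hD : rw' ≤ Nat.card ↥(E ⊓ E') * Nat.card ↥D :=
      Nat.le_of_mul_le_mul_left (hs.trans (Nat.mul_le_mul_right _ (hbd _ hES))) hpos
    have hDi : Nat.card ↥(E ⊓ E') * Nat.card ↥D ≤ fOn W (E ⊓ E') :=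
      Nat.mul_le_mul_left _ (Subgroup.card_le_of_le h3)
    refine ⟨⟨hE.1.trans le_sup_left, hES, ?_⟩,
      ⟨le_inf hE.1 hE'.1, inf_le_left.trans hE.2.1, hD.trans hDi⟩, ?_⟩
    · exact Nat.le_of_mul_le_mul_right (hs.trans (Nat.mul_le_mul_left _
        (hDi.trans (hbd _ (inf_le_left.trans hE.2.1))))) hpos
    · obtain ⟨k, hk⟩ : Nat.card ↥R ∣ Nat.card ↥(E ⊓ E') :=
        Subgroup.card_dvd_of_le (le_inf hE.1 hE'.1)
      rw [hk, Nat.mul_div_cancel_left k Nat.card_pos]
      refine Nat.le_of_mul_le_mul_left ?_ (Nat.card_pos (α := ↥R))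
      calc Nat.card ↥R * Nat.card ↥W ≤ Nat.card ↥(E ⊓ E') * Nat.card ↥D := hD
        _ = _ := by rw [hk]; ring
  -- a smallest maximizer outside `R`
  obtain ⟨A, hA, hAR⟩ : ∃ A, IsMaxAb S A ∧ ¬ A ≤ R := by
    by_contra hc
    push Not at hc
    exact hJ (thompson_le_iff.mpr hc)
  obtain ⟨-, heq⟩ := h.offender hA hW
  obtain ⟨E₁, ⟨hE₁, hE₁R⟩, hmin⟩ := Set.exists_min_image {E | E ∈ 𝓔 ∧ E ≠ R}
    (fun E => Nat.card ↥E) (Set.toFinite _)
    ⟨A ⊔ R, ⟨le_sup_right, sup_le hA.1 h.core_le, heq⟩,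
      fun he => hAR (le_sup_left.trans he.le)⟩
  have hcommW : ∀ E ≤ S, ⁅E, E⁆ ≤ Subgroup.centralizer (W : Set G) := fun E hE =>
    (Subgroup.commutator_mono hE hE).trans (h.comm.trans (Subgroup.le_centralizer_iff.mp le_rfl))
  have hnormW : ∀ E : Subgroup G, E ≤ Subgroup.normalizer (W : Set G) := fun E => by
    rw [Subgroup.normalizer_eq_top_iff.mpr hWn]; exact le_top
  -- it acts quadratically
  have hquad : ⁅W, E₁⁆ ≤ Subgroup.centralizer (E₁ : Set G) := by
    obtain ⟨ho1, ho2⟩ := replOK_of_max hab (hnormW E₁) (hcommW E₁ hE₁.2.1)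
      (fun B hB => (hbd B (hB.trans hE₁.2.1)).trans hE₁.2.2) W le_rfl
    have hWE : ⁅W, E₁⁆ ≤ W := Subgroup.commutator_le_left W E₁
    have hR' : R ≤ repl E₁ W := le_inf hE₁.1
      ((Subgroup.le_centralizer_iff.mp le_rfl : R ≤ Subgroup.centralizer (W : Set G)).trans
        (Subgroup.centralizer_le hWE))
    have hmem : repl E₁ W ∈ 𝓔 := ⟨hR', inf_le_left.trans hE₁.2.1, hE₁.2.2.trans ho1.ge⟩
    by_cases hre : repl E₁ W = R
    · exfalso
      rw [hre, ← hWdef, inf_idem] at ho2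
      set D := ⁅W, E₁⁆
      have hle : D ≤ ⁅D, E₁⁆ := by
        refine le_trans (Subgroup.commutator_mono ho2.le le_rfl) ?_
        rw [commutator_sup_eq_of_abelian hab (hnormW E₁) hWE inf_le_left]
        refine sup_le le_rfl ?_
        rw [Subgroup.commutator_eq_bot_iff_le_centralizer.mpr (inf_le_right : W ⊓
          Subgroup.centralizer (E₁ : Set G) ≤ _)]
        exact bot_le
      have hbot := eq_bot_of_le_commutator (hWE.trans hWS)
        (hle.trans (Subgroup.commutator_mono le_rfl hE₁.2.1))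
      rw [hbot, bot_sup_eq] at ho2
      have hcent : W ≤ Subgroup.centralizer (E₁ : Set G) := inf_eq_left.mp ho2.symm
      obtain ⟨x, hx, hxR⟩ := SetLike.exists_of_lt (lt_of_le_of_ne hE₁.1 (Ne.symm hE₁R))
      have hxW : x ∈ Subgroup.centralizer (W : Set G) :=
        Subgroup.le_centralizer_iff.mp hcent hx
      have htop := h.normal_sup_eq_top Subgroup.normal_centralizer hxW (hE₁.2.1 hx) hxR
      refine hZ ?_
      rw [← Subgroup.centralizer_univ, ← Subgroup.coe_top, Subgroup.le_centralizer_iff, ← htop]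
      exact sup_le (Subgroup.centralizer_le h.center_le_centralizer_core)
        (Subgroup.le_centralizer_iff.mp inf_le_right)
    · have heq' : repl E₁ W = E₁ :=
        Subgroup.eq_of_le_of_card_ge inf_le_left (hmin _ ⟨hmem, hre⟩)
      rw [Subgroup.le_centralizer_iff]
      intro e he
      rw [← heq'] at he
      exact he.2
  -- its conjugates under `N(S)`
  let N := Subgroup.normalizer (S : Set G)
  let En : ↥N → Subgroup G := fun n => E₁.map (MulAut.conj (n : G)).toMonoidHom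
  have hEn : ∀ n, En n ∈ 𝓔 ∧ Nat.card ↥(En n) = Nat.card ↥E₁ ∧
      ⁅W, En n⁆ ≤ Subgroup.centralizer (En n : Set G) := by
    intro n
    have hinj : Function.Injective (MulAut.conj (n : G)).toMonoidHom := (MulAut.conj (n : G)).injective
    have hWm : W.map (MulAut.conj (n : G)).toMonoidHom = W :=
      Subgroup.eq_of_le_of_card_ge (by rintro _ ⟨x, hx, rfl⟩; exact hWn.conj_mem x hx n)
        (Nat.card_congr (Subgroup.equivMapOfInjective W _ hinj).toEquiv).le
    refine ⟨⟨?_, ?_, hE₁.2.2.trans ?_⟩,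
      (Nat.card_congr (Subgroup.equivMapOfInjective E₁ _ hinj).toEquiv).symm, ?_⟩
    · intro r hr
      refine ⟨(n : G)⁻¹ * r * n, hE₁.1 (by simpa using h.core_normal.conj_mem r hr (n : G)⁻¹), ?_⟩
      show (n : G) * ((n : G)⁻¹ * r * n) * (n : G)⁻¹ = r
      group
    · rintro _ ⟨x, hx, rfl⟩
      exact (Subgroup.mem_normalizer_iff.mp n.2 x).mp (hE₁.2.1 hx)
    · rw [fOn, fOn, ← Nat.card_congr (Subgroup.equivMapOfInjective E₁ _ hinj).toEquiv,
        Nat.card_congr ((W ⊓ Subgroup.centralizer (E₁ : Set G)).equivMapOfInjective _ hinj).toEquiv]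
      refine Nat.mul_le_mul_left _ (Subgroup.card_le_of_le ?_)
      rintro _ ⟨v, hv, rfl⟩
      refine ⟨hWn.conj_mem v hv.1 n, Subgroup.mem_centralizer_iff.mpr ?_⟩
      rintro _ ⟨x, hx, rfl⟩
      rw [← map_mul, ← map_mul, Subgroup.mem_centralizer_iff.mp hv.2 x hx]
    · rw [Subgroup.le_centralizer_iff]
      rintro _ ⟨x, hx, rfl⟩
      refine Subgroup.mem_centralizer_iff.mpr fun v hv => ?_
      have hv' : v ∈ (⁅W, E₁⁆).map (MulAut.conj (n : G)).toMonoidHom := by
        rw [Subgroup.map_commutator, hWm]; exact hv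
      obtain ⟨u, hu, rfl⟩ := hv'
      rw [← map_mul, ← map_mul, Subgroup.mem_centralizer_iff.mp (hquad hu) x hx]
  -- they generate `S`
  have hjoin : (⨆ n, En n) = S := by
    refine (h.irred _ ?_ (iSup_le fun n => (hEn n).1.2.1) ?_).resolve_left ?_
    · exact le_trans (hEn 1).1.1 (le_iSup En 1)
    · intro m hm
      have key : ∀ m : ↥N, (⨆ n, En n).map (MulAut.conj (m : G)).toMonoidHom ≤ ⨆ n, En n := by
        intro m
        rw [Subgroup.map_iSup]
        refine iSup_le fun n => le_trans (le_of_eq ?_) (le_iSup En (m * n))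
        simp only [En, Subgroup.map_map]
        congr 1
        ext x
        simp [mul_assoc]
      refine Subgroup.mem_normalizer_iff.mpr fun x => ⟨fun hx => key ⟨m, hm⟩ ⟨x, hx, rfl⟩,
        fun hx => ?_⟩
      have := key ⟨m, hm⟩⁻¹ ⟨_, hx, rfl⟩
      simpa [mul_assoc] using this
    · intro he
      refine hE₁R (le_antisymm (le_trans ?_ he.le) hE₁.1)
      refine le_trans ?_ (le_iSup En 1)
      intro x hx
      exact ⟨x, hx, by simp⟩
  -- `S` is a maximizer
  have hSmem : S ∈ 𝓔 := by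
    obtain ⟨Emax, hEmax, hmax⟩ := Set.exists_max_image 𝓔 (fun E => Nat.card ↥E) (Set.toFinite _)
      ⟨E₁, hE₁⟩
    have hall : ∀ n, En n ≤ Emax := fun n => by
      have := Subgroup.eq_of_le_of_card_ge (le_sup_left : Emax ≤ Emax ⊔ En n)
        (hmax _ (hsup _ hEmax _ (hEn n).1).1)
      exact le_sup_right.trans this.ge
    exact le_antisymm hEmax.2.1 (hjoin.ge.trans (iSup_le hall)) ▸ hEmax
  -- quadratic action
  have hEnormal : ∀ n, ∀ s ∈ S, ∀ x ∈ En n, s * x * s⁻¹ ∈ En n := fun n s hs x hx => by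
    have := (En n).mul_mem ((hEn n).1.1 (h.comm
      (Subgroup.commutator_mem_commutator hs ((hEn n).1.2.1 hx)))) hx
    rwa [commutatorElement_def, inv_mul_cancel_right] at this
  have hq1 : ∀ a, ∀ w ∈ W, ∀ e ∈ En a, ⁅w, e⁆ ∈ Z := by
    intro a w hw e he
    have hwe : ⁅w, e⁆ ∈ W := Subgroup.commutator_le_left W (En a)
      (Subgroup.commutator_mem_commutator hw he)
    refine ⟨hWS hwe, ?_⟩
    have hSle : S ≤ Subgroup.centralizer ({⁅w, e⁆} : Set G) := by
      rw [← hjoin]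
      refine iSup_le fun b x hx => Subgroup.mem_centralizer_singleton_iff.mpr ?_
      by_cases hab' : En a = En b
      · exact Subgroup.mem_centralizer_iff.mp
          ((hEn a).2.2 (Subgroup.commutator_mem_commutator hw he)) x (hab' ▸ hx)
      · have hlt : En a ⊓ En b = R := by
          by_contra hne
          refine hab' ?_
          have h1 := hmin _ ⟨(hsup _ (hEn a).1 _ (hEn b).1).2.1, hne⟩
          have e1 := Subgroup.eq_of_le_of_card_ge (inf_le_left : En a ⊓ En b ≤ En a)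
            ((hEn a).2.1.trans_le h1)
          have e2 := Subgroup.eq_of_le_of_card_ge (inf_le_right : En a ⊓ En b ≤ En b)
            ((hEn b).2.1.trans_le h1)
          exact e1.symm.trans e2
        set Ca := W ⊓ Subgroup.centralizer (En a : Set G)
        set Cb := W ⊓ Subgroup.centralizer (En b : Set G)
        have hfull : Ca ⊔ Cb = W := by
          refine Subgroup.eq_of_le_of_card_ge (sup_le inf_le_left inf_le_left) ?_
          have := (hsup _ (hEn a).1 _ (hEn b).1).2.2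
          rwa [hlt, Nat.div_self Nat.card_pos, mul_one] at this
        have hw' : w ∈ ((Ca ⊔ Cb : Subgroup G) : Set G) := by rw [hfull]; exact hw
        rw [Subgroup.coe_mul_of_left_le_normalizer_right _ _ (fun u (hu : u ∈ Ca) =>
          Subgroup.centralizer_le_normalizer _ (Subgroup.mem_centralizer_iff.mpr fun v (hv : v ∈ Cb) =>
            hab v hv.1 u hu.1))] at hw'
        obtain ⟨ca, hca, cb, hcb, rfl⟩ := hw'
        have hcbe : ⁅cb, e⁆ ∈ Cb := by
          rw [show ⁅cb, e⁆ = cb * (e * cb⁻¹ * e⁻¹) by rw [commutatorElement_def]; group]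
          refine Cb.mul_mem hcb ?_
          refine ⟨hWn.conj_mem _ (W.inv_mem hcb.1) e, Subgroup.mem_centralizer_iff.mpr fun y hy => ?_⟩
          have h1 := Subgroup.mem_centralizer_iff.mp (Cb.inv_mem hcb).2 _
            (hEnormal b e⁻¹ (S.inv_mem ((hEn a).1.2.1 he)) y hy)
          calc y * (e * cb⁻¹ * e⁻¹) = e * (e⁻¹ * y * e⁻¹⁻¹ * cb⁻¹) * e⁻¹ := by group
            _ = e * (cb⁻¹ * (e⁻¹ * y * e⁻¹⁻¹)) * e⁻¹ := by rw [h1]
            _ = e * cb⁻¹ * e⁻¹ * y := by group
        have hca1 : ⁅ca, e⁆ = 1 := commutatorElement_eq_one_iff_mul_comm.mpr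
          (Subgroup.mem_centralizer_iff.mp hca.2 e he).symm
        have : ⁅ca * cb, e⁆ = ⁅cb, e⁆ := by
          rw [show ⁅ca * cb, e⁆ = ca * ⁅cb, e⁆ * ca⁻¹ * ⁅ca, e⁆ by
            simp only [commutatorElement_def]; group, hca1, mul_one,
            hab ca hca.1 _ hcbe.1, mul_inv_cancel_right]
        rw [this]
        exact Subgroup.mem_centralizer_iff.mp hcbe.2 x hx
    exact Subgroup.mem_centralizer_iff.mpr fun s hs =>
      Subgroup.mem_centralizer_singleton_iff.mp (hSle hs)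
  have hquadS : ∀ w ∈ W, ∀ s ∈ S, ⁅w, s⁆ ∈ Z := by
    intro w hw s hs
    rw [← hjoin] at hs
    induction hs using Subgroup.iSup_induction' with
    | hp n x hx => exact hq1 n w hw x hx
    | h1 => rw [commutatorElement_one_right]; exact Z.one_mem
    | hmul x y hx hy ihx ihy =>
      have hxS : x ∈ S := hjoin ▸ hx
      rw [show ⁅w, x * y⁆ = ⁅w, x⁆ * (x * ⁅w, y⁆ * x⁻¹) by simp only [commutatorElement_def]; group,
        Subgroup.mem_centralizer_iff.mp ihy.2 x hxS, mul_inv_cancel_right]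
      exact Z.mul_mem ihx ihy
  -- two conjugates of `Z` generate `W`
  have hdec : ∀ g : G, g ∉ M → ∀ w ∈ W, ∃ z ∈ Z, ∃ z' ∈ Z, w = z * (g * z' * g⁻¹) := by
    intro g hg w hw
    set Zg := Z.map (MulAut.conj g).toMonoidHom
    have hZW : Z ≤ W := h.center_le_centralizer_core
    have hZgW : Zg ≤ W := by
      rintro _ ⟨z, hz, rfl⟩
      exact hWn.conj_mem z (hZW hz) g
    set I := Z ⊔ Zg
    have hIW : I ≤ W := sup_le hZW hZgW
    have hIn : I.Normal := by
      rw [← Subgroup.normalizer_eq_top_iff]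
      have hclosed : ∀ a : G, (∀ z ∈ Z, a * z * a⁻¹ ∈ I) → (∀ z ∈ Zg, a * z * a⁻¹ ∈ I) →
          a ∈ Subgroup.normalizer (I : Set G) := by
        intro a h1 h2
        rw [Subgroup.mem_normalizer_iff_map_conj_eq]
        refine Subgroup.eq_of_le_of_card_ge ?_ ?_
        · show I.map (MulAut.conj a).toMonoidHom ≤ I
          rw [Subgroup.map_le_iff_le_comap]
          exact sup_le h1 h2
        · exact (Nat.card_congr (Subgroup.equivMapOfInjective I _ (MulAut.conj a).injective).toEquiv).le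
      refine h.gen hg (fun s hs => hclosed s (fun z hz => ?_) (fun z hz => ?_))
        (fun s hs => hclosed _ (fun z hz => ?_) (fun z hz => ?_))
      · rw [Subgroup.mem_centralizer_iff.mp hz.2 s hs, mul_inv_cancel_right]
        exact Subgroup.mem_sup_left hz
      · have h1 := hquadS z (hZgW hz) s hs
        rw [show s * z * s⁻¹ = ⁅z, s⁆⁻¹ * z by rw [commutatorElement_def]; group]
        exact Subgroup.mul_mem_sup (Z.inv_mem h1) hz
      · have hzc : g⁻¹ * z * g ∈ W := by
          simpa using hWn.conj_mem z (hZW hz) g⁻¹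
        have h1 := hquadS _ hzc s hs
        rw [show g * s * g⁻¹ * z * (g * s * g⁻¹)⁻¹ = (g * ⁅g⁻¹ * z * g, s⁆⁻¹ * g⁻¹) * z by
          rw [commutatorElement_def]; group]
        exact I.mul_mem (Subgroup.mem_sup_right ⟨_, Z.inv_mem h1, rfl⟩) (Subgroup.mem_sup_left hz)
      · obtain ⟨z', hz', rfl⟩ := hz
        show g * s * g⁻¹ * (g * z' * g⁻¹) * (g * s * g⁻¹)⁻¹ ∈ I
        rw [show g * s * g⁻¹ * (g * z' * g⁻¹) * (g * s * g⁻¹)⁻¹ = g * (s * z' * s⁻¹) * g⁻¹ by group,
          Subgroup.mem_centralizer_iff.mp hz'.2 s hs, mul_inv_cancel_right]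
        exact Subgroup.mem_sup_right ⟨z', hz', rfl⟩
    have hInc : ¬ I ≤ Subgroup.center G := fun hc => hZ (le_sup_left.trans hc)
    have hb := h.bound hIn (le_inf (hIW.trans h.cent) hIW) hInc h.core_le le_rfl
    have hIC : Nat.card ↥(W ⊓ Subgroup.centralizer (S : Set G)) ≤
        Nat.card ↥(I ⊓ Subgroup.centralizer (S : Set G)) :=
      Subgroup.card_le_of_le fun x hx => ⟨Subgroup.mem_sup_left ⟨hWS hx.1, hx.2⟩, hx.2⟩
    have hI : I = W := Subgroup.eq_of_le_of_card_ge hIW (Nat.le_of_mul_le_mul_left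
      (hSmem.2.2.trans ((Nat.mul_le_mul_left _ hIC).trans hb)) Nat.card_pos)
    have hw' : w ∈ ((Z ⊔ Zg : Subgroup G) : Set G) := by
      show w ∈ I
      rw [hI]; exact hw
    rw [Subgroup.coe_mul_of_left_le_normalizer_right _ _ (fun u (hu : u ∈ Z) =>
      Subgroup.centralizer_le_normalizer _ (Subgroup.mem_centralizer_iff.mpr fun v (hv : v ∈ Zg) =>
        hab v (hZgW hv) u (hZW hu)))] at hw'
    obtain ⟨z, hz, _, ⟨z', hz', rfl⟩, rfl⟩ := hw'
    exact ⟨z, hz, z', hz', rfl⟩
  refine ⟨hquadS, hdec, fun x hx hxR w hw hc => ?_⟩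
  obtain ⟨g, hg⟩ := h.exists_not_mem
  obtain ⟨z, hz, z', hz', rfl⟩ := hdec g hg w hw
  set u := g * z' * g⁻¹
  have hcu : ⁅u, x⁆ ∈ Subgroup.center G := by
    have e : ⁅z * u, x⁆ = z * ⁅u, x⁆ * z⁻¹ * ⁅z, x⁆ := by
      simp only [commutatorElement_def]; group
    have hz1 : ⁅z, x⁆ = 1 := commutatorElement_eq_one_iff_mul_comm.mpr
      (Subgroup.mem_centralizer_iff.mp hz.2 x hx).symm
    have : ⁅u, x⁆ = z⁻¹ * ⁅z * u, x⁆ * z := by rw [e, hz1]; group
    rw [this, Subgroup.mem_center_iff.mp hc z⁻¹, inv_mul_cancel_right]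
    exact hc
  set f := QuotientGroup.mk' (Subgroup.center G)
  have hgen : (Subgroup.centralizer ({f u} : Set _)).comap f = ⊤ := by
    refine h.gen_elem hx hxR hg ?_ fun s hs => ?_
    · rw [Subgroup.mem_comap, Subgroup.mem_centralizer_singleton_iff, eq_comm,
        ← commutatorElement_eq_one_iff_mul_comm, ← map_commutatorElement]
      exact (QuotientGroup.eq_one_iff _).mpr hcu
    · rw [Subgroup.mem_comap, Subgroup.mem_centralizer_singleton_iff, ← map_mul, ← map_mul]
      refine congrArg f ?_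
      calc g * s * g⁻¹ * (g * z' * g⁻¹) = g * (s * z') * g⁻¹ := by group
        _ = g * (z' * s) * g⁻¹ := by rw [Subgroup.mem_centralizer_iff.mp hz'.2 s hs]
        _ = _ := by simp only [u]; group
  have hcn : (Subgroup.centralizer ({u} : Set G)).Normal := ⟨fun a ha b => by
    rw [Subgroup.mem_centralizer_singleton_iff] at ha ⊢
    have hb : b⁻¹ ∈ (Subgroup.centralizer ({f u} : Set _)).comap f := hgen ▸ Subgroup.mem_top _
    rw [Subgroup.mem_comap, Subgroup.mem_centralizer_singleton_iff, eq_comm,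
      ← commutatorElement_eq_one_iff_mul_comm, ← map_commutatorElement] at hb
    have hcc := Subgroup.mem_center_iff.mp ((QuotientGroup.eq_one_iff _).mp hb)
    calc b * a * b⁻¹ * u = b * a * (⁅u, b⁻¹⁆⁻¹ * u) * b⁻¹ := by
          rw [commutatorElement_def]; group
      _ = b * a * (u * ⁅u, b⁻¹⁆⁻¹) * b⁻¹ := by
          rw [← Subgroup.mem_center_iff.mp ((Subgroup.center G).inv_mem
            ((QuotientGroup.eq_one_iff _).mp hb)) u]
      _ = b * (a * u) * ⁅u, b⁻¹⁆⁻¹ * b⁻¹ := by group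
      _ = b * (u * a) * ⁅u, b⁻¹⁆⁻¹ * b⁻¹ := by rw [ha]
      _ = b * u * (a * ⁅u, b⁻¹⁆⁻¹) * b⁻¹ := by group
      _ = b * u * (⁅u, b⁻¹⁆⁻¹ * a) * b⁻¹ := by
          rw [Subgroup.mem_center_iff.mp ((Subgroup.center G).inv_mem
            ((QuotientGroup.eq_one_iff _).mp hb)) a]
      _ = (b * u * ⁅u, b⁻¹⁆⁻¹ * b⁻¹) * (b * a * b⁻¹) := by group
      _ = u * (b * a * b⁻¹) := by
          congr 1
          rw [← mul_left_inj b]
          calc b * u * ⁅u, b⁻¹⁆⁻¹ * b⁻¹ * b = b * (u * ⁅u, b⁻¹⁆⁻¹) := by group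
            _ = b * (⁅u, b⁻¹⁆⁻¹ * u) := by
                rw [Subgroup.mem_center_iff.mp ((Subgroup.center G).inv_mem
                  ((QuotientGroup.eq_one_iff _).mp hb)) u]
            _ = u * b := by rw [commutatorElement_def]; group⟩
  have hS : S ≤ Subgroup.centralizer ({u} : Set G) := by
    intro s hs
    have hm : g * s * g⁻¹ ∈ Subgroup.centralizer ({u} : Set G) := by
      rw [Subgroup.mem_centralizer_singleton_iff]
      calc g * s * g⁻¹ * (g * z' * g⁻¹) = g * (s * z') * g⁻¹ := by group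
        _ = g * (z' * s) * g⁻¹ := by rw [Subgroup.mem_centralizer_iff.mp hz'.2 s hs]
        _ = _ := by simp only [u]; group
    have := hcn.conj_mem _ hm g⁻¹
    rwa [show g⁻¹ * (g * s * g⁻¹) * g⁻¹⁻¹ = s by group] at this
  have htop := h.normal_eq_top hcn hS
  have huW : u ∈ W := hWn.conj_mem z' (h.center_le_centralizer_core hz') g
  refine Z.mul_mem hz ⟨hWS huW, Subgroup.mem_centralizer_iff.mpr fun s _ => ?_⟩
  exact Subgroup.mem_centralizer_singleton_iff.mp (htop ▸ Subgroup.mem_top s)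

end Ctx

end Cfsg.Agent.Lib.PushUp
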