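import Cfsg.Agent.Lib.PushUp.CL

/-!
Abelian subgroups of largest order in a pushing-up situation: an offender `A` has a partner
`(A ∩ R) Z(R)` inside the core, and `S = J(S) R` unless `Z(S)` is central or `J(S) ≤ R`.
-/

set_option autoImplicit false
open scoped Pointwise commutatorElement
open Cfsg

namespace Cfsg.Agent.Lib.PushUp

open Lib.LocalEven2

variable {G : Type*} [Group G] [Finite G] {p : ℕ} [Fact p.Prime] {S M : Subgroup G}

/-- An abelian subgroup of `S` of largest order, inside `G`. -/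
def IsMaxAb (S A : Subgroup G) : Prop :=
  A ≤ S ∧ A ≤ Subgroup.centralizer (A : Set G) ∧
    ∀ B : Subgroup G, B ≤ S → B ≤ Subgroup.centralizer (B : Set G) → Nat.card ↥B ≤ Nat.card ↥A

omit [Fact p.Prime] in
theorem isMaxAb_map {A : Subgroup ↥S} (hA : A ∈ maxAbelianSubgroups ↥S) :
    IsMaxAb S (A.map S.subtype) := by
  refine ⟨Subgroup.map_subtype_le _, ?_, fun B hBS hB => ?_⟩
  · rintro _ ⟨a, ha, rfl⟩
    refine Subgroup.mem_centralizer_iff.mpr ?_
    rintro _ ⟨b, hb, rfl⟩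
    exact congrArg Subtype.val
      (Subgroup.mem_centralizer_iff.mp (CD.isMulCommutative_iff_le_centralizer.mp hA.1 ha) b hb)
  · rw [← Nat.card_congr (Subgroup.equivMapOfInjective A S.subtype S.subtype_injective).toEquiv,
      ← Nat.card_congr (Subgroup.subgroupOfEquivOfLe hBS).toEquiv]
    refine hA.2 _ (CD.isMulCommutative_iff_le_centralizer.mpr fun x hx => ?_)
    exact Subgroup.mem_centralizer_iff.mpr fun y hy =>
      Subtype.ext (Subgroup.mem_centralizer_iff.mp (hB hx) _ hy)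

omit [Fact p.Prime] in
theorem IsMaxAb.mem {A : Subgroup G} (hA : IsMaxAb S A) :
    A.subgroupOf S ∈ maxAbelianSubgroups ↥S := by
  refine ⟨CD.isMulCommutative_iff_le_centralizer.mpr fun x hx =>
    Subgroup.mem_centralizer_iff.mpr fun y hy =>
      Subtype.ext (Subgroup.mem_centralizer_iff.mp (hA.2.1 hx) _ hy), fun B hB => ?_⟩
  rw [Nat.card_congr (Subgroup.subgroupOfEquivOfLe hA.1).toEquiv,
    Nat.card_congr (Subgroup.equivMapOfInjective B S.subtype S.subtype_injective).toEquiv]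
  refine hA.2.2 _ (Subgroup.map_subtype_le _) ?_
  rintro _ ⟨a, ha, rfl⟩
  refine Subgroup.mem_centralizer_iff.mpr ?_
  rintro _ ⟨b, hb, rfl⟩
  exact congrArg Subtype.val
    (Subgroup.mem_centralizer_iff.mp (CD.isMulCommutative_iff_le_centralizer.mp hB ha) b hb)

omit [Fact p.Prime] in
theorem IsMaxAb.le_thompson {A : Subgroup G} (hA : IsMaxAb S A) :
    A ≤ thompsonSubgroupAOf S := by
  rw [← Subgroup.map_subgroupOf_eq_of_le hA.1]
  exact Subgroup.map_mono (le_sSup hA.mem)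

omit [Fact p.Prime] in
theorem thompson_le_iff {X : Subgroup G} :
    thompsonSubgroupAOf S ≤ X ↔ ∀ A, IsMaxAb S A → A ≤ X := by
  refine ⟨fun hX A hA => hA.le_thompson.trans hX, fun hX => ?_⟩
  rw [thompsonSubgroupAOf, Subgroup.map_le_iff_le_comap]
  exact sSup_le fun A hA => Subgroup.map_le_iff_le_comap.mp (hX _ (isMaxAb_map hA))

omit [Fact p.Prime] in
theorem IsMaxAb.centralizer_eq {A : Subgroup G} (hA : IsMaxAb S A) {x : G} (hxS : x ∈ S)
    (hx : x ∈ Subgroup.centralizer (A : Set G)) : x ∈ A := by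
  have h := CD.centralizer_maxAbelian hA.mem
  have : (⟨x, hxS⟩ : ↥S) ∈ Subgroup.centralizer ((A.subgroupOf S : Subgroup ↥S) : Set ↥S) :=
    Subgroup.mem_centralizer_iff.mpr fun y hy =>
      Subtype.ext (Subgroup.mem_centralizer_iff.mp hx _ hy)
  rw [h] at this
  exact this

omit [Fact p.Prime] in
theorem exists_isMaxAb : ∃ A : Subgroup G, IsMaxAb S A := by
  obtain ⟨A, hA⟩ := CD.exists_maxAbelian (G := ↥S)
  exact ⟨_, isMaxAb_map hA⟩

omit [Fact p.Prime] in
theorem centerThompson_le {A : Subgroup G} (hA : IsMaxAb S A) : centerThompsonAOf S ≤ A :=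
  fun _ hx => hA.centralizer_eq (Subgroup.map_subtype_le _ hx.1)
    (Subgroup.centralizer_le hA.le_thompson hx.2)

omit [Fact p.Prime] in
theorem center_le_centerThompson :
    S ⊓ Subgroup.centralizer (S : Set G) ≤ centerThompsonAOf S := by
  obtain ⟨A, hA⟩ := exists_isMaxAb (S := S)
  intro x hx
  refine ⟨hA.le_thompson (hA.centralizer_eq hx.1 (Subgroup.centralizer_le hA.1 hx.2)), ?_⟩
  exact Subgroup.centralizer_le (Subgroup.map_subtype_le _) hx.2

namespace Ctx

variable (h : Ctx p S M)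
include h

theorem isMaxAb_conj {A : Subgroup G} (hA : IsMaxAb S A) (hAR : A ≤ pCore p G) (g : G) :
    IsMaxAb S (A.map (MulAut.conj g).toMonoidHom) ∧
      A.map (MulAut.conj g).toMonoidHom ≤ pCore p G := by
  have hle : A.map (MulAut.conj g).toMonoidHom ≤ pCore p G := by
    rintro _ ⟨a, ha, rfl⟩
    exact h.core_normal.conj_mem _ (hAR ha) g
  refine ⟨⟨hle.trans h.core_le, ?_, fun B hB hBc => ?_⟩, hle⟩
  · rintro _ ⟨a, ha, rfl⟩
    refine Subgroup.mem_centralizer_iff.mpr ?_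
    rintro _ ⟨b, hb, rfl⟩
    rw [← map_mul, ← map_mul, Subgroup.mem_centralizer_iff.mp (hA.2.1 ha) b hb]
  · rw [← Nat.card_congr (Subgroup.equivMapOfInjective A _ (MulAut.conj g).injective).toEquiv]
    exact hA.2.2 B hB hBc

theorem center_core_le {A : Subgroup G} (hA : IsMaxAb S A) (hAR : A ≤ pCore p G) :
    Subgroup.centralizer (pCore p G : Set G) ≤ A :=
  fun _ hw => hA.centralizer_eq (h.core_le (h.cent hw)) (Subgroup.centralizer_le hAR hw)

theorem offender {A : Subgroup G} (hA : IsMaxAb S A)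
    (hW : ¬ Subgroup.centralizer (pCore p G : Set G) ≤ Subgroup.center G) :
    IsMaxAb S ((A ⊓ pCore p G) ⊔ Subgroup.centralizer (pCore p G : Set G)) ∧
      Nat.card ↥(pCore p G) * Nat.card ↥(Subgroup.centralizer (pCore p G : Set G)) ≤
        Nat.card ↥(A ⊔ pCore p G) *
          Nat.card ↥(Subgroup.centralizer (pCore p G : Set G) ⊓
            Subgroup.centralizer ((A ⊔ pCore p G : Subgroup G) : Set G)) := by
  haveI := h.core_normal
  set R := pCore p G
  set W := Subgroup.centralizer (R : Set G)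
  have hb := h.bound Subgroup.normal_centralizer (le_inf h.cent le_rfl) hW
    (E := A ⊔ R) le_sup_right (sup_le hA.1 h.core_le)
  have hab : (A ⊓ R) ⊔ W ≤ Subgroup.centralizer (((A ⊓ R) ⊔ W : Subgroup G) : Set G) :=
    CD.sup_abelian (inf_le_left.trans (hA.2.1.trans (Subgroup.centralizer_le inf_le_left)))
      h.centralizer_core_comm (Subgroup.centralizer_le inf_le_right)
  have hS : (A ⊓ R) ⊔ W ≤ S := sup_le (inf_le_left.trans hA.1) (h.cent.trans h.core_le)
  have i1 := CD.card_mul_le_sup A R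
  have i2 := CD.card_mul_le_sup (A ⊓ R) W
  rw [show (A ⊓ R) ⊓ W = A ⊓ W from le_antisymm (inf_le_inf_right _ inf_le_left)
    (le_inf (le_inf inf_le_left (inf_le_right.trans h.cent)) inf_le_right)] at i2
  have i3 : Nat.card ↥(A ⊓ W) ≤
      Nat.card ↥(W ⊓ Subgroup.centralizer ((A ⊔ R : Subgroup G) : Set G)) := by
    refine Subgroup.card_le_of_le (le_inf inf_le_right ?_)
    rw [CD.centralizer_sup]
    exact le_inf (inf_le_left.trans hA.2.1) inf_le_right
  have i4 := hA.2.2 _ hS hab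
  set a := Nat.card ↥A
  set b := Nat.card ↥((A ⊓ R) ⊔ W)
  set r := Nat.card ↥R
  set w := Nat.card ↥W
  set e := Nat.card ↥(A ⊔ R)
  set k := Nat.card ↥(A ⊓ R)
  set t := Nat.card ↥(A ⊓ W)
  set c := Nat.card ↥(W ⊓ Subgroup.centralizer ((A ⊔ R : Subgroup G) : Set G))
  have j1 : a * r * t ≤ e * k * t := Nat.mul_le_mul_right _ i1
  have j2 : e * k * t ≤ k * (e * c) :=
    (Nat.mul_le_mul_left _ i3).trans (le_of_eq (by ring))
  have j3 : k * (e * c) ≤ k * (r * w) := Nat.mul_le_mul_left _ hb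
  have j4 : k * (r * w) ≤ b * r * t := by
    calc k * (r * w) = r * (k * w) := by ring
      _ ≤ r * (b * t) := Nat.mul_le_mul_left _ i2
      _ = b * r * t := by ring
  have hab' : a ≤ b := Nat.le_of_mul_le_mul_right (Nat.le_of_mul_le_mul_right
    (j1.trans (j2.trans (j3.trans j4))) Nat.card_pos) Nat.card_pos
  refine ⟨⟨hS, hab, fun B hB hBc => (hA.2.2 B hB hBc).trans hab'⟩, ?_⟩
  refine Nat.le_of_mul_le_mul_left ?_ (Nat.card_pos (α := ↥(A ⊓ R)))
  exact j4.trans ((Nat.mul_le_mul_right _ (Nat.mul_le_mul_right _ i4)).trans (j1.trans j2))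

theorem center_le_centralizer_core :
    S ⊓ Subgroup.centralizer (S : Set G) ≤ Subgroup.centralizer (pCore p G : Set G) :=
  inf_le_right.trans (Subgroup.centralizer_le h.core_le)

theorem thompson_sup_core (hJ : ¬ thompsonSubgroupAOf S ≤ pCore p G) :
    thompsonSubgroupAOf S ⊔ pCore p G = S := by
  refine (h.irred _ le_sup_right (sup_le (Subgroup.map_subtype_le _) h.core_le) ?_).resolve_left
    fun he => hJ (le_sup_left.trans he.le)
  intro g hg
  have hcj : ∀ g ∈ Subgroup.normalizer (S : Set G), ∀ x ∈ thompsonSubgroupAOf S ⊔ pCore p G,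
      g * x * g⁻¹ ∈ thompsonSubgroupAOf S ⊔ pCore p G := by
    intro g hg
    have : thompsonSubgroupAOf S ⊔ pCore p G ≤
        (thompsonSubgroupAOf S ⊔ pCore p G).comap (MulAut.conj g).toMonoidHom := by
      refine sup_le (thompson_le_iff.mpr fun A hA => ?_) fun r hr =>
        Subgroup.mem_sup_right (h.core_normal.conj_mem r hr g)
      rw [← Subgroup.map_le_iff_le_comap]
      refine le_trans ?_ le_sup_left
      refine IsMaxAb.le_thompson ⟨?_, ?_, fun B hB hBc => ?_⟩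
      · rintro _ ⟨a, ha, rfl⟩
        exact (Subgroup.mem_normalizer_iff.mp hg a).mp (hA.1 ha)
      · rintro _ ⟨a, ha, rfl⟩
        refine Subgroup.mem_centralizer_iff.mpr ?_
        rintro _ ⟨b, hb, rfl⟩
        rw [← map_mul, ← map_mul, Subgroup.mem_centralizer_iff.mp (hA.2.1 ha) b hb]
      · rw [← Nat.card_congr (Subgroup.equivMapOfInjective A _ (MulAut.conj g).injective).toEquiv]
        exact hA.2.2 B hB hBc
    exact fun x hx => this hx
  refine Subgroup.mem_normalizer_iff.mpr fun x => ⟨hcj g hg x, fun hx => ?_⟩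
  have := hcj g⁻¹ (Subgroup.inv_mem _ hg) _ hx
  rwa [show g⁻¹ * (g * x * g⁻¹) * g⁻¹⁻¹ = x by group] at this

/-- If `J(S) ≤ O_p(G)` then `C_S(Z(J(S)))` is normal, unless `Z(S)` is central. -/
theorem centralizer_normal_of_le (hJ : thompsonSubgroupAOf S ≤ pCore p G)
    (hZ : ¬ S ⊓ Subgroup.centralizer (S : Set G) ≤ Subgroup.center G) :
    (S ⊓ Subgroup.centralizer (centerThompsonAOf S : Set G)).Normal := by
  haveI := h.core_normal
  haveI hJn : (thompsonSubgroupAOf S).Normal := normal_of_conj_le fun g => by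
    rw [Subgroup.map_le_iff_le_comap, thompson_le_iff]
    intro A hA
    rw [← Subgroup.map_le_iff_le_comap]
    exact ((h.isMaxAb_conj hA (hA.le_thompson.trans hJ) g).1).le_thompson
  haveI hZJn : (centerThompsonAOf S).Normal := by
    haveI : (Subgroup.centralizer (thompsonSubgroupAOf S : Set G)).Normal :=
      Subgroup.normal_centralizer
    exact Subgroup.normal_inf_normal _ _
  set C := Subgroup.centralizer (centerThompsonAOf S : Set G)
  haveI hC : C.Normal := Subgroup.normal_centralizer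
  have heq : S ⊓ C = pCore p G ⊓ C := by
    refine le_antisymm (fun x hx => ⟨?_, hx.2⟩) (inf_le_inf_right _ h.core_le)
    by_contra hxR
    have htop := h.normal_sup_eq_top hC hx.2 hx.1 hxR
    refine hZ ?_
    rw [← Subgroup.centralizer_univ, ← Subgroup.coe_top, Subgroup.le_centralizer_iff, ← htop]
    exact sup_le (Subgroup.centralizer_le center_le_centerThompson)
      (Subgroup.le_centralizer_iff.mp inf_le_right)
  rw [heq]
  exact Subgroup.normal_inf_normal _ _

/-- `[Z(J(S)), S] ∩ Z(S)` is central when `J(S) ≰ O_p(G)` and `Z(S)` is not central. -/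
theorem commutator_inf_center_le (hJ : ¬ thompsonSubgroupAOf S ≤ pCore p G)
    (hZ : ¬ S ⊓ Subgroup.centralizer (S : Set G) ≤ Subgroup.center G) :
    ⁅centerThompsonAOf S, S⁆ ⊓ (S ⊓ Subgroup.centralizer (S : Set G)) ≤ Subgroup.center G := by
  classical
  haveI := h.core_normal
  set R := pCore p G with hRdef
  set W := Subgroup.centralizer (R : Set G) with hWdef
  haveI hWn : W.Normal := Subgroup.normal_centralizer
  set ZJ := centerThompsonAOf S
  have hW : ¬ W ≤ Subgroup.center G := fun hc => hZ (h.center_le_centralizer_core.trans hc)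
  obtain ⟨A, hA, hAR⟩ : ∃ A, IsMaxAb S A ∧ ¬ A ≤ R := by
    by_contra hc
    push Not at hc
    exact hJ (thompson_le_iff.mpr hc)
  obtain ⟨hA', -⟩ := h.offender hA hW
  have hA'R : (A ⊓ R) ⊔ W ≤ R := sup_le inf_le_right h.cent
  -- `Y`: what all abelian subgroups of largest order inside `R` share
  set Y : Subgroup G := ⨅ B : {B : Subgroup G // IsMaxAb S B ∧ B ≤ R}, (B : Subgroup G)
  have hYle : ∀ B, IsMaxAb S B → B ≤ R → Y ≤ B := fun B hB hBR =>
    iInf_le (fun B : {B : Subgroup G // IsMaxAb S B ∧ B ≤ R} => (B : Subgroup G)) ⟨B, hB, hBR⟩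
  have hWY : W ≤ Y := le_iInf fun B => h.center_core_le B.2.1 B.2.2
  have hZY : ZJ ≤ Y := le_iInf fun B => centerThompson_le B.2.1
  have hYn : ∀ g : G, ∀ y ∈ Y, g * y * g⁻¹ ∈ Y := fun g y hy => by
    refine Subgroup.mem_iInf.mpr fun B => ?_
    obtain ⟨hB, hBR⟩ := h.isMaxAb_conj B.2.1 B.2.2 g⁻¹
    obtain ⟨b, hb, hby⟩ := Subgroup.mem_map.mp (show g⁻¹ * (g * y * g⁻¹) * g⁻¹⁻¹ ∈
      (B : Subgroup G).map (MulAut.conj g⁻¹).toMonoidHom by
        rw [show g⁻¹ * (g * y * g⁻¹) * g⁻¹⁻¹ = y by group]; exact hYle _ hB hBR hy)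
    have : (MulAut.conj g⁻¹).toMonoidHom b = (MulAut.conj g⁻¹).toMonoidHom (g * y * g⁻¹) := hby
    rwa [(MulAut.conj g⁻¹).injective this] at hb
  -- the elements acting trivially on `Y / W`
  let f := QuotientGroup.mk' W
  haveI : (Y.map f).Normal :=
    Subgroup.Normal.map ⟨fun y hy g => hYn g y hy⟩ f (QuotientGroup.mk'_surjective W)
  set N := (Subgroup.centralizer ((Y.map f : Subgroup (G ⧸ W)) : Set (G ⧸ W))).comap f with hNdef
  haveI hN : N.Normal := Subgroup.Normal.comap Subgroup.normal_centralizer f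
  obtain ⟨x, hx, hxR⟩ := SetLike.not_le_iff_exists.mp hAR
  have hxN : x ∈ N := by
    rw [hNdef, Subgroup.mem_comap, Subgroup.mem_centralizer_iff]
    rintro _ ⟨y, hy, rfl⟩
    obtain ⟨a, ha, w, hw, rfl⟩ := Subgroup.mem_sup_of_normal_right.mp (hYle _ hA' hA'R hy)
    have hw1 : f w = 1 := (QuotientGroup.eq_one_iff w).mpr hw
    rw [map_mul, hw1, mul_one, ← map_mul, ← map_mul,
      Subgroup.mem_centralizer_iff.mp (hA.2.1 hx) a ha.1]
  have htop := h.normal_sup_eq_top hN hxN (hA.1 hx) hxR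
  -- `Z(J(S)) W` is normal
  set Y₀ := ZJ ⊔ W
  have hY₀Y : Y₀ ≤ Y := sup_le hZY hWY
  have hSZ : ∀ s ∈ S, ∀ z ∈ ZJ, s * z * s⁻¹ ∈ ZJ := by
    intro s hs z hz
    have hcJ : ∀ s ∈ S, ∀ j ∈ thompsonSubgroupAOf S, s * j * s⁻¹ ∈ thompsonSubgroupAOf S := by
      intro s hs
      have : thompsonSubgroupAOf S ≤ (thompsonSubgroupAOf S).comap (MulAut.conj s).toMonoidHom := by
        refine thompson_le_iff.mpr fun B hB => ?_
        rw [← Subgroup.map_le_iff_le_comap]
        refine IsMaxAb.le_thompson ⟨?_, ?_, fun C hC hCc => ?_⟩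
        · rintro _ ⟨a, ha, rfl⟩
          exact S.mul_mem (S.mul_mem hs (hB.1 ha)) (S.inv_mem hs)
        · rintro _ ⟨a, ha, rfl⟩
          refine Subgroup.mem_centralizer_iff.mpr ?_
          rintro _ ⟨b, hb, rfl⟩
          rw [← map_mul, ← map_mul, Subgroup.mem_centralizer_iff.mp (hB.2.1 ha) b hb]
        · rw [← Nat.card_congr (Subgroup.equivMapOfInjective B _ (MulAut.conj s).injective).toEquiv]
          exact hB.2.2 C hC hCc
      exact fun j hj => this hj
    refine ⟨hcJ s hs z hz.1, Subgroup.mem_centralizer_iff.mpr fun j hj => ?_⟩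
    have h1 := Subgroup.mem_centralizer_iff.mp hz.2 _ (hcJ s⁻¹ (S.inv_mem hs) j hj)
    calc j * (s * z * s⁻¹) = s * (s⁻¹ * j * s⁻¹⁻¹ * z) * s⁻¹ := by group
      _ = s * (z * (s⁻¹ * j * s⁻¹⁻¹)) * s⁻¹ := by rw [h1]
      _ = s * z * s⁻¹ * j := by group
  haveI hY₀ : Y₀.Normal := normal_of_conj_le fun g => by
    have hg : g ∈ N ⊔ S := htop ▸ Subgroup.mem_top g
    obtain ⟨n, hn, s, hs, rfl⟩ := Subgroup.mem_sup_of_normal_left.mp hg
    rw [Subgroup.map_le_iff_le_comap]
    refine sup_le (fun z hz => ?_) fun w hw => Subgroup.mem_sup_right (hWn.conj_mem w hw _)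
    show n * s * z * (n * s)⁻¹ ∈ Y₀
    set z' := s * z * s⁻¹
    have hz' : z' ∈ ZJ := hSZ s hs z hz
    have hn' := Subgroup.mem_centralizer_iff.mp (Subgroup.mem_comap.mp hn) _
      (Subgroup.mem_map_of_mem f (hZY hz'))
    have hw : z'⁻¹ * (n * z' * n⁻¹) ∈ W := by
      rw [← QuotientGroup.eq_one_iff (N := W), ← QuotientGroup.mk'_apply, map_mul, map_mul,
        map_mul, map_inv, map_inv, ← show f z' * f n = f n * f z' from hn', mul_inv_cancel_right,
        inv_mul_cancel]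
    have := Subgroup.mul_mem_sup hz' hw
    rwa [mul_inv_cancel_left, show n * z' * n⁻¹ = n * s * z * (n * s)⁻¹ by
      simp only [z']; group] at this
  -- `[Z(J(S)), S]` lies in a normal subgroup centralized by `J(S)`
  set D := ⁅Y₀, R⁆
  haveI hD : D.Normal := Subgroup.commutator_normal _ _
  have hDZ : D ≤ ZJ := by
    refine Subgroup.commutator_le.mpr fun y hy r hr => ?_
    obtain ⟨z, hz, w, hw, rfl⟩ := Subgroup.mem_sup_of_normal_right.mp hy
    have hwr : w * r = r * w := (Subgroup.mem_centralizer_iff.mp hw r hr).symm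
    rw [show ⁅z * w, r⁆ = z * (r * z⁻¹ * r⁻¹) from by
      calc ⁅z * w, r⁆ = z * (w * r) * w⁻¹ * z⁻¹ * r⁻¹ := by rw [commutatorElement_def]; group
        _ = z * (r * z⁻¹ * r⁻¹) := by rw [hwr]; group]
    exact ZJ.mul_mem hz (hSZ r (h.core_le hr) _ (ZJ.inv_mem hz))
  have hle : ⁅ZJ, S⁆ ≤ D := by
    refine Subgroup.commutator_le.mpr fun z hz s hs => ?_
    rw [← h.thompson_sup_core hJ] at hs
    obtain ⟨j, hj, r, hr, rfl⟩ := Subgroup.mem_sup_of_normal_right.mp hs
    have hzj : z * j = j * z := (Subgroup.mem_centralizer_iff.mp hz.2 j hj).symm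
    rw [show ⁅z, j * r⁆ = j * ⁅z, r⁆ * j⁻¹ from by
      calc ⁅z, j * r⁆ = (z * j) * r * z⁻¹ * r⁻¹ * j⁻¹ := by rw [commutatorElement_def]; group
        _ = j * ⁅z, r⁆ * j⁻¹ := by rw [hzj, commutatorElement_def]; group]
    exact hD.conj_mem _ (Subgroup.commutator_mem_commutator (Subgroup.mem_sup_left hz) hr) j
  have htopD : Subgroup.centralizer (D : Set G) ⊔ S = ⊤ :=
    h.normal_sup_eq_top Subgroup.normal_centralizer
      (Subgroup.centralizer_le hDZ (Subgroup.le_centralizer_iff.mp inf_le_right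
        (hA.le_thompson hx))) (hA.1 hx) hxR
  rw [← Subgroup.centralizer_univ, ← Subgroup.coe_top, Subgroup.le_centralizer_iff, ← htopD]
  exact sup_le (Subgroup.centralizer_le (inf_le_left.trans hle))
    (Subgroup.le_centralizer_iff.mp (inf_le_right.trans inf_le_right))

/-- The `p`-th powers in `Z(S)` are central when `J(S) ≰ O_p(G)` and `Z(S)` is not central. -/
theorem pow_mem_center (hJ : ¬ thompsonSubgroupAOf S ≤ pCore p G)
    (hZ : ¬ S ⊓ Subgroup.centralizer (S : Set G) ≤ Subgroup.center G)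
    {z : G} (hz : z ∈ S ⊓ Subgroup.centralizer (S : Set G)) : z ^ p ∈ Subgroup.center G := by
  classical
  haveI := h.core_normal
  set R := pCore p G
  set W := Subgroup.centralizer (R : Set G) with hWdef
  haveI hWn : W.Normal := Subgroup.normal_centralizer
  have hW : ¬ W ≤ Subgroup.center G := fun hc => hZ (h.center_le_centralizer_core.trans hc)
  obtain ⟨A, hA, hAR⟩ : ∃ A, IsMaxAb S A ∧ ¬ A ≤ R := by
    by_contra hc
    push Not at hc
    exact hJ (thompson_le_iff.mpr hc)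
  obtain ⟨-, heq⟩ := h.offender hA hW
  set E := A ⊔ R
  have hcomm : ∀ a ∈ W, ∀ b ∈ W, Commute a b := fun a ha b hb =>
    Subgroup.mem_centralizer_iff.mp (h.centralizer_core_comm hb) a ha
  let φ : ↥W →* G := MonoidHom.mk' (fun w => (w : G) ^ p) fun a b => by
    show ((a : G) * b) ^ p = _
    rw [(hcomm a a.2 b b.2).mul_pow]
  set W₁ := φ.range
  haveI hW₁ : W₁.Normal := ⟨by
    rintro _ ⟨w, rfl⟩ g
    exact ⟨⟨g * w * g⁻¹, hWn.conj_mem w w.2 g⟩, conj_pow⟩⟩
  have hW₁W : W₁ ≤ W := by rintro _ ⟨w, rfl⟩; exact W.pow_mem w.2 p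
  have hzW : z ∈ W := h.center_le_centralizer_core hz
  by_contra hzc
  have hW₁c : ¬ W₁ ≤ Subgroup.center G := fun hc => hzc (hc ⟨⟨z, hzW⟩, rfl⟩)
  set V := omegaOne p W
  have hVc : ¬ V ≤ Subgroup.center G := fun hc => hZ (h.center_le_of_omega_central hc)
  have b1 := h.bound hW₁ (le_inf (hW₁W.trans h.cent) hW₁W) hW₁c (E := E) le_sup_right
    (sup_le hA.1 h.core_le)
  have b2 := h.bound h.omega_normal h.omega_le hVc (E := E) le_sup_right
    (sup_le hA.1 h.core_le)
  set C := Subgroup.centralizer (E : Set G)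
  have hker : Nat.card ↥φ.ker = Nat.card ↥V := by
    rw [Nat.card_congr (Subgroup.equivMapOfInjective φ.ker W.subtype W.subtype_injective).toEquiv]
    congr 2
    ext x
    rw [mem_omegaOne_iff h.centralizer_core_comm]
    exact ⟨fun ⟨w, hw, hwx⟩ => hwx ▸ ⟨w.2, hw⟩, fun hx => ⟨⟨x, hx.1⟩, hx.2, rfl⟩⟩
  have hWcard : Nat.card ↥W = Nat.card ↥V * Nat.card ↥W₁ := by
    rw [← hker, ← Subgroup.index_ker, Subgroup.card_mul_index]
  have hCcard : Nat.card ↥(W ⊓ C) ≤ Nat.card ↥(V ⊓ C) * Nat.card ↥(W₁ ⊓ C) := by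
    let ψ : ↥(W ⊓ C) →* G := φ.comp (Subgroup.inclusion inf_le_left)
    have hk : Nat.card ↥ψ.ker ≤ Nat.card ↥(V ⊓ C) := by
      refine Nat.card_le_card_of_injective (fun x => (⟨((x : ↥(W ⊓ C)) : G),
        (mem_omegaOne_iff h.centralizer_core_comm).mpr ⟨(x : ↥(W ⊓ C)).2.1, x.2⟩,
        (x : ↥(W ⊓ C)).2.2⟩ : ↥(V ⊓ C))) fun a b hab => ?_
      exact Subtype.ext (Subtype.ext (congrArg (fun y : ↥(V ⊓ C) => (y : G)) hab))
    have hr : Nat.card ↥ψ.range ≤ Nat.card ↥(W₁ ⊓ C) := by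
      refine Subgroup.card_le_of_le ?_
      rintro _ ⟨x, rfl⟩
      exact ⟨⟨Subgroup.inclusion inf_le_left x, rfl⟩, C.pow_mem x.2.2 p⟩
    rw [← Subgroup.card_mul_index ψ.ker, Subgroup.index_ker]
    exact Nat.mul_le_mul hk hr
  set e := Nat.card ↥E
  set r := Nat.card ↥R
  set v := Nat.card ↥V
  set u := Nat.card ↥W₁
  have hre : r < e := by
    refine lt_of_le_of_ne (Subgroup.card_le_of_le le_sup_right) fun he => hAR ?_
    exact le_sup_left.trans (Subgroup.eq_of_le_of_card_ge le_sup_right he.ge).ge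
  have k1 : e * e * Nat.card ↥(W ⊓ C) ≤ r * r * (v * u) :=
    calc e * e * Nat.card ↥(W ⊓ C)
        ≤ e * e * (Nat.card ↥(V ⊓ C) * Nat.card ↥(W₁ ⊓ C)) := Nat.mul_le_mul_left _ hCcard
      _ = (e * Nat.card ↥(V ⊓ C)) * (e * Nat.card ↥(W₁ ⊓ C)) := by ring
      _ ≤ (r * v) * (r * u) := Nat.mul_le_mul b2 b1
      _ = r * r * (v * u) := by ring
  rw [← hWcard] at k1
  have k2 : e * (r * Nat.card ↥W) ≤ r * (r * Nat.card ↥W) :=
    calc e * (r * Nat.card ↥W) ≤ e * (e * Nat.card ↥(W ⊓ C)) := Nat.mul_le_mul_left _ heq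
      _ = e * e * Nat.card ↥(W ⊓ C) := by ring
      _ ≤ r * r * Nat.card ↥W := k1
      _ = r * (r * Nat.card ↥W) := by ring
  exact absurd (Nat.le_of_mul_le_mul_right k2 (Nat.mul_pos Nat.card_pos Nat.card_pos)) (not_le.mpr hre)

end Ctx

theorem normal_of_le_center {T : Subgroup G} (hT : T ≤ Subgroup.center G) : T.Normal :=
  ⟨fun x hx g => by rwa [Subgroup.mem_center_iff.mp (hT hx) g, mul_inv_cancel_right]⟩

end Cfsg.Agent.Lib.PushUp
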